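import Mathlib

/-!
Two-part description of the group algebra of a dihedral group, and the axioms of a
primitive Schur ring over it.
-/

set_option autoImplicit false
set_option linter.unusedSectionVars false

namespace Cfsg.Agent.Dih3572

open DihedralGroup MonoidAlgebra

variable {m : ℕ} [NeZero m] {R : Type} [CommRing R]

/-- rotations and reflections -/
def dihEquiv (m : ℕ) : ZMod m ⊕ ZMod m ≃ DihedralGroup m where
  toFun := Sum.elim r sr
  invFun d := match d with
    | r i => Sum.inl i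
    | sr i => Sum.inr i
  left_inv := by rintro (i | i) <;> rfl
  right_inv := by rintro (i | i) <;> rfl

theorem sum_dih {M : Type*} [AddCommMonoid M] (f : DihedralGroup m → M) :
    ∑ d, f d = ∑ i : ZMod m, f (r i) + ∑ i : ZMod m, f (sr i) := by
  rw [← Fintype.sum_equiv (dihEquiv m) (fun x => f (dihEquiv m x)) f (fun x => rfl),
    Fintype.sum_sum_type]
  rfl

/-- the element with given coefficients -/
noncomputable def ofFun {M : Type} [Fintype M] (f : M → R) : MonoidAlgebra R M :=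
  ∑ d, single d (f d)

noncomputable def ofFunA {M : Type} [Fintype M] (f : M → R) : AddMonoidAlgebra R M :=
  ∑ d, AddMonoidAlgebra.single d (f d)

@[simp] theorem coeff_mk {M : Type} [Fintype M] (f : M → R) (d : M) : (ofFun f).coeff d = f d := by
  classical
  simp [ofFun, MonoidAlgebra.coeff_sum, Finsupp.single_apply]

@[simp] theorem coeff_mkA {M : Type} [Fintype M] (f : M → R) (d : M) :
    (ofFunA f).coeff d = f d := by
  classical
  simp [ofFunA, AddMonoidAlgebra.coeff_sum, Finsupp.single_apply]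

theorem coeff_mul_grp {M : Type} [Group M] [Fintype M] (x y : MonoidAlgebra R M) (g : M) :
    (x * y).coeff g = ∑ h, x.coeff h * y.coeff (h⁻¹ * g) := by
  rw [MonoidAlgebra.coeff_mul_apply_left, Finsupp.sum_fintype _ _ (by simp)]

theorem coeff_mul_add (x y : AddMonoidAlgebra R (ZMod m)) (g : ZMod m) :
    (x * y).coeff g = ∑ h, x.coeff h * y.coeff (-h + g) := by
  rw [AddMonoidAlgebra.coeff_mul_apply_left, Finsupp.sum_fintype _ _ (by simp)]

/-- the rotation part -/
noncomputable def cp (x : MonoidAlgebra R (DihedralGroup m)) : AddMonoidAlgebra R (ZMod m) :=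
  ofFunA fun i => x.coeff (r i)

/-- the reflection part -/
noncomputable def bp (x : MonoidAlgebra R (DihedralGroup m)) : AddMonoidAlgebra R (ZMod m) :=
  ofFunA fun i => x.coeff (sr i)

/-- inversion -/
noncomputable def st : AddMonoidAlgebra R (ZMod m) →+* AddMonoidAlgebra R (ZMod m) :=
  AddMonoidAlgebra.mapDomainRingHom R (-AddMonoidHom.id (ZMod m))

@[simp] theorem coeff_cp (x : MonoidAlgebra R (DihedralGroup m)) (i : ZMod m) :
    (cp x).coeff i = x.coeff (r i) := coeff_mkA _ _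

@[simp] theorem coeff_bp (x : MonoidAlgebra R (DihedralGroup m)) (i : ZMod m) :
    (bp x).coeff i = x.coeff (sr i) := coeff_mkA _ _

@[simp] theorem coeff_st (x : AddMonoidAlgebra R (ZMod m)) (i : ZMod m) :
    (st x).coeff i = x.coeff (-i) := by
  show (Finsupp.mapDomain _ x.coeff) i = _
  conv_lhs => rw [show i = (-AddMonoidHom.id (ZMod m)) (-i) by simp]
  exact Finsupp.mapDomain_apply (fun a b h => by simpa using h) _ _

theorem cp_mul (x y : MonoidAlgebra R (DihedralGroup m)) :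
    cp (x * y) = cp x * cp y + st (bp x) * bp y := by
  ext g
  rw [coeff_cp, coeff_mul_grp, sum_dih, AddMonoidAlgebra.coeff_add, Finsupp.add_apply,
    coeff_mul_add, coeff_mul_add]
  refine congrArg₂ (· + ·) (Finset.sum_congr rfl fun i _ => ?_) ?_
  · simp
  · refine Fintype.sum_equiv (Equiv.neg _) _ _ fun i => ?_
    simp [sub_eq_add_neg, add_comm]

theorem bp_mul (x y : MonoidAlgebra R (DihedralGroup m)) :
    bp (x * y) = st (cp x) * bp y + bp x * cp y := by
  ext g
  rw [coeff_bp, coeff_mul_grp, sum_dih, AddMonoidAlgebra.coeff_add, Finsupp.add_apply,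
    coeff_mul_add, coeff_mul_add]
  refine congrArg₂ (· + ·) ?_ (Finset.sum_congr rfl fun i _ => ?_)
  · refine Fintype.sum_equiv (Equiv.neg _) _ _ fun i => ?_
    simp [sub_eq_add_neg, add_comm]
  · simp [sub_eq_add_neg, add_comm]

theorem cp_add (x y : MonoidAlgebra R (DihedralGroup m)) : cp (x + y) = cp x + cp y := by
  ext i; simp

theorem bp_add (x y : MonoidAlgebra R (DihedralGroup m)) : bp (x + y) = bp x + bp y := by
  ext i; simp

theorem cp_sub (x y : MonoidAlgebra R (DihedralGroup m)) : cp (x - y) = cp x - cp y := by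
  ext i; simp

theorem ext_parts {x y : MonoidAlgebra R (DihedralGroup m)} (h1 : cp x = cp y) (h2 : bp x = bp y) :
    x = y := by
  ext d
  cases d with
  | r i => simpa using congrArg (fun t : AddMonoidAlgebra R (ZMod m) => t.coeff i) h1
  | sr i => simpa using congrArg (fun t : AddMonoidAlgebra R (ZMod m) => t.coeff i) h2

/-- A primitive Schur ring over a dihedral group, given by the relation "same basic set". -/
structure Dat (m : ℕ) [NeZero m] where
  O : DihedralGroup m → DihedralGroup m → Prop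
  refl : ∀ d, O d d
  symm : ∀ {a b}, O a b → O b a
  trans : ∀ {a b c}, O a b → O b c → O a c
  one : ∀ {d}, O 1 d → d = 1
  inv : ∀ {a b}, O a b → O a⁻¹ b⁻¹
  conv : ∀ {S : Type} [CommRing S] (f g : DihedralGroup m → S),
    (∀ a b, O a b → f a = f b) → (∀ a b, O a b → g a = g b) →
      ∀ a b, O a b → ∑ h, f h * g (h⁻¹ * a) = ∑ h, f h * g (h⁻¹ * b)
  gen : ∀ X : Set (DihedralGroup m), (∀ a b, O a b → (a ∈ X ↔ b ∈ X)) →
    Subgroup.closure X = ⊥ ∨ Subgroup.closure X = ⊤
  rad : ∀ X : Set (DihedralGroup m), (∀ a b, O a b → (a ∈ X ↔ b ∈ X)) →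
    ∀ z : DihedralGroup m, z ≠ 1 → (∀ w, w ∈ X ↔ z * w ∈ X) → X = ∅ ∨ X = Set.univ

variable (𝒟 : Dat m)

/-- stable sets -/
def Dat.Stb (X : Set (DihedralGroup m)) : Prop := ∀ a b, 𝒟.O a b → (a ∈ X ↔ b ∈ X)

/-- stable functions -/
def Dat.Inv {S : Type} (f : DihedralGroup m → S) : Prop := ∀ a b, 𝒟.O a b → f a = f b

theorem Dat.Inv.preimage {S : Type} {f : DihedralGroup m → S} (h : 𝒟.Inv f) (s : Set S) :
    𝒟.Stb (f ⁻¹' s) := fun a b hab => by simp [Set.mem_preimage, h a b hab]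

theorem Dat.stb_ne_one : 𝒟.Stb {d | d ≠ 1} := fun a b hab => by
  refine not_congr ⟨fun h => 𝒟.one (h ▸ hab), fun h => 𝒟.one (h ▸ 𝒟.symm hab)⟩

theorem Dat.Stb.inter {X Y : Set (DihedralGroup m)} (hX : 𝒟.Stb X) (hY : 𝒟.Stb Y) :
    𝒟.Stb (X ∩ Y) := fun a b hab => and_congr (hX a b hab) (hY a b hab)

theorem Dat.Stb.compl {X : Set (DihedralGroup m)} (hX : 𝒟.Stb X) : 𝒟.Stb Xᶜ :=
  fun a b hab => not_congr (hX a b hab)

theorem Dat.gen' {X : Set (DihedralGroup m)} (hX : 𝒟.Stb X) (H : Subgroup (DihedralGroup m))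
    (hle : ∀ x ∈ X, x ∈ H) (hH : H ≠ ⊤) {x : DihedralGroup m} (hx : x ∈ X) : x = 1 := by
  rcases 𝒟.gen X hX with h | h
  · exact Subgroup.mem_bot.mp (h ▸ Subgroup.subset_closure hx)
  · exact absurd (top_le_iff.mp (h ▸ (Subgroup.closure_le H).mpr hle)) hH

/-- rotations -/
def rot (m : ℕ) [NeZero m] : Subgroup (DihedralGroup m) where
  carrier := Set.range r
  one_mem' := ⟨0, rfl⟩
  mul_mem' := by rintro _ _ ⟨i, rfl⟩ ⟨j, rfl⟩; exact ⟨i + j, by simp⟩
  inv_mem' := by rintro _ ⟨i, rfl⟩; exact ⟨-i, by simp⟩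

theorem rot_ne_top : rot m ≠ ⊤ := by
  intro h
  obtain ⟨i, hi⟩ : sr (0 : ZMod m) ∈ rot m := h ▸ Subgroup.mem_top _
  cases hi

/-- Every stable set off the identity meets the reflections. -/
theorem Dat.meet_sr {X : Set (DihedralGroup m)} (hX : 𝒟.Stb X) {x : DihedralGroup m} (hx : x ∈ X)
    (hx1 : x ≠ 1) : ∃ i, sr i ∈ X := by
  by_contra h
  refine hx1 (𝒟.gen' hX (rot m) (fun d hd => ?_) rot_ne_top hx)
  cases d with
  | r i => exact ⟨i, rfl⟩
  | sr i => exact absurd ⟨i, hd⟩ h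

theorem Dat.inv_fun {S : Type} {f : DihedralGroup m → S} (hf : 𝒟.Inv f) (d : DihedralGroup m) :
    f d⁻¹ = f d := by
  classical
  have hX : 𝒟.Stb {c | f c⁻¹ ≠ f c} := fun a b hab => by
    simp only [Set.mem_ofPred_eq, hf a b hab, hf _ _ (𝒟.inv hab)]
  by_contra h
  obtain ⟨i, hi⟩ := 𝒟.meet_sr hX (x := d) h (fun h1 => h (by rw [h1, inv_one]))
  exact hi (congrArg f (inv_sr i))

theorem Dat.orbit_sym (d : DihedralGroup m) : 𝒟.O d d⁻¹ := by
  have h : 𝒟.Inv (fun c => 𝒟.O d c) := fun a b hab =>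
    propext ⟨fun h => 𝒟.trans h hab, fun h => 𝒟.trans h (𝒟.symm hab)⟩
  have := 𝒟.inv_fun h d
  rw [this]
  exact 𝒟.refl d

/-- Every stable set off the identity meets the rotations (`1 < m`). -/
theorem Dat.meet_r (hm : 1 < m) {X : Set (DihedralGroup m)} (hX : 𝒟.Stb X) {x : DihedralGroup m}
    (hx : x ∈ X) (hx1 : x ≠ 1) : ∃ i, r i ∈ X ∧ i ≠ 0 := by
  classical
  by_contra h
  -- the basic set of `x`
  let Y : Set (DihedralGroup m) := {c | 𝒟.O x c}
  have hY : 𝒟.Stb Y := fun a b hab =>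
    ⟨fun h => 𝒟.trans h hab, fun h => 𝒟.trans h (𝒟.symm hab)⟩
  have hYX : ∀ c ∈ Y, c ∈ X ∧ c ≠ 1 := fun c hc =>
    ⟨(hX x c hc).mp hx, fun h => hx1 (𝒟.one (h ▸ 𝒟.symm hc))⟩
  have hYsr : ∀ c ∈ Y, ∃ i, c = sr i := by
    intro c hc
    cases c with
    | r i => exact absurd ⟨i, (hYX _ hc).1, fun h0 => (hYX _ hc).2 (by simp [h0])⟩ h
    | sr i => exact ⟨i, rfl⟩
  let f : DihedralGroup m → ℤ := fun c => if c ∈ Y then 1 else 0
  have hf : 𝒟.Inv f := fun a b hab => by simp only [f, hY a b hab]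
  have hg : 𝒟.Inv (fun c => ∑ e, f e * f (e⁻¹ * c)) := fun a b hab => 𝒟.conv f f hf hf a b hab
  have hZ : 𝒟.Stb (((fun c => ∑ e, f e * f (e⁻¹ * c)) ⁻¹' {0}ᶜ) ∩ {d | d ≠ 1}) :=
    (hg.preimage 𝒟 _).inter 𝒟 𝒟.stb_ne_one
  have huniq : ∀ c ∈ Y, c = x := by
    intro c hc
    by_contra hcx
    have hxy : x ∈ Y := 𝒟.refl x
    have hne : x * c ≠ 1 := by
      obtain ⟨i, rfl⟩ := hYsr c hc
      intro h1
      refine hcx ?_
      rw [eq_inv_of_mul_eq_one_left h1]
      simp
    have hmem : x * c ∈ ((fun c => ∑ e, f e * f (e⁻¹ * c)) ⁻¹' {0}ᶜ) ∩ {d | d ≠ 1} := by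
      refine ⟨?_, hne⟩
      simp only [Set.mem_preimage, Set.mem_compl_iff, Set.mem_singleton_iff]
      refine ne_of_gt (Finset.sum_pos' (fun e _ => ?_) ⟨x, Finset.mem_univ _, ?_⟩)
      · simp only [f]; split <;> split <;> norm_num
      · simp [f, hxy, hc]
    obtain ⟨i, ⟨hi, -⟩⟩ := 𝒟.meet_sr hZ hmem hne
    refine hi (Finset.sum_eq_zero fun e _ => ?_)
    simp only [f]
    by_cases he : e ∈ Y
    · obtain ⟨j, rfl⟩ := hYsr e he
      have : (sr j)⁻¹ * sr i ∉ Y := by
        intro hh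
        obtain ⟨k, hk⟩ := hYsr _ hh
        simp at hk
      rw [if_neg this, mul_zero]
    · rw [if_neg he, zero_mul]
  obtain ⟨j, hj⟩ := hYsr x (𝒟.refl x)
  rcases 𝒟.gen Y hY with h1 | h1
  · exact hx1 (Subgroup.mem_bot.mp (h1 ▸ Subgroup.subset_closure (𝒟.refl x)))
  · have hle : Subgroup.closure Y ≤ Subgroup.zpowers x :=
      (Subgroup.closure_le _).mpr fun c hc => (huniq c hc).symm ▸ Subgroup.mem_zpowers x
    rw [h1, top_le_iff] at hle
    have h2 : Nat.card (Subgroup.zpowers x) = orderOf x := Nat.card_zpowers x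
    rw [hle, hj, orderOf_sr, Subgroup.card_top, DihedralGroup.nat_card] at h2
    omega

/-- A stable function is determined by its values on rotations. -/
theorem Dat.inv_ext (hm : 1 < m) {S : Type} {f g : DihedralGroup m → S} (hf : 𝒟.Inv f)
    (hg : 𝒟.Inv g) (h : ∀ i, f (r i) = g (r i)) : f = g := by
  funext d
  by_contra hd
  have hX : 𝒟.Stb {c | f c ≠ g c} := fun a b hab => by
    simp only [Set.mem_ofPred_eq, hf a b hab, hg a b hab]
  obtain ⟨i, hi, -⟩ := 𝒟.meet_r hm hX (x := d) hd (fun h1 => hd (by rw [h1, one_def]; exact h 0))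
  exact hi (h i)

/-- A periodic stable function is constant. -/
theorem Dat.periodic_const {S : Type} {f : DihedralGroup m → S} (hf : 𝒟.Inv f)
    {z : DihedralGroup m} (hz : z ≠ 1) (hper : ∀ w, f (z * w) = f w) (a b : DihedralGroup m) :
    f a = f b := by
  rcases 𝒟.rad _ (hf.preimage 𝒟 {f a}) z hz (fun w => by simp [hper w]) with h | h
  · have : a ∈ f ⁻¹' {f a} := rfl
    rw [h] at this
    exact absurd this (Set.notMem_empty a)
  · have : b ∈ f ⁻¹' {f a} := h ▸ Set.mem_univ b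
    exact (Set.mem_singleton_iff.mp this).symm

/-- The stable elements of the group algebra. -/
noncomputable def Dat.alg (S : Type) [CommRing S] :
    Subring (MonoidAlgebra S (DihedralGroup m)) where
  carrier := {x | 𝒟.Inv (fun d => x.coeff d)}
  zero_mem' := fun a b _ => by simp
  one_mem' := fun a b hab => by
    classical
    have h : a = 1 ↔ b = 1 := ⟨fun h => 𝒟.one (h ▸ hab), fun h => 𝒟.one (h ▸ 𝒟.symm hab)⟩
    simp [MonoidAlgebra.one_def, Finsupp.single_apply, eq_comm, h]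
  add_mem' := fun {x y} hx hy a b hab => by simp [hx a b hab, hy a b hab]
  neg_mem' := fun {x} hx a b hab => by simp [hx a b hab]
  mul_mem' := fun {x y} hx hy a b hab => by
    simp only [coeff_mul_grp]
    exact 𝒟.conv _ _ hx hy a b hab

theorem Dat.mem_alg {S : Type} [CommRing S] {x : MonoidAlgebra S (DihedralGroup m)} :
    x ∈ 𝒟.alg S ↔ 𝒟.Inv (fun d => x.coeff d) := Iff.rfl

theorem Dat.mk_mem {S : Type} [CommRing S] {f : DihedralGroup m → S} (hf : 𝒟.Inv f) :
    ofFun f ∈ 𝒟.alg S := fun a b hab => by simp [hf a b hab]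

theorem Dat.comm {S : Type} [CommRing S] {x y : MonoidAlgebra S (DihedralGroup m)}
    (hx : x ∈ 𝒟.alg S) (hy : y ∈ 𝒟.alg S) : x * y = y * x := by
  ext d
  rw [← 𝒟.inv_fun ((𝒟.alg S).mul_mem hx hy) d]
  simp only [coeff_mul_grp]
  refine Fintype.sum_equiv (Equiv.mulLeft d) _ _ fun h => ?_
  show x.coeff h * y.coeff (h⁻¹ * d⁻¹) = y.coeff (d * h) * x.coeff ((d * h)⁻¹ * d)
  rw [← 𝒟.inv_fun hy (h⁻¹ * d⁻¹), ← 𝒟.inv_fun hx h, mul_inv_rev, inv_inv, inv_inv, mul_comm]
  simp [mul_assoc]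

noncomputable instance Dat.algComm (S : Type) [CommRing S] : CommRing (𝒟.alg S) :=
  { (inferInstance : Ring (𝒟.alg S)) with
    mul_comm := fun x y => Subtype.ext (𝒟.comm x.2 y.2) }

/-- the rotation part is symmetric -/
theorem Dat.st_cp {S : Type} [CommRing S] (x : 𝒟.alg S) :
    st (cp (x : MonoidAlgebra S (DihedralGroup m))) = cp (x : MonoidAlgebra S (DihedralGroup m)) := by
  ext i
  rw [coeff_st, coeff_cp, coeff_cp]
  simpa using 𝒟.inv_fun x.2 (r i)

theorem Dat.eq_of_cp (hm : 1 < m) {S : Type} [CommRing S] {x y : 𝒟.alg S}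
    (h : cp (x : MonoidAlgebra S (DihedralGroup m)) = cp (y : MonoidAlgebra S (DihedralGroup m))) :
    x = y := by
  refine Subtype.ext (MonoidAlgebra.coeff_injective (Finsupp.ext fun d => ?_))
  refine congrFun (𝒟.inv_ext hm x.2 y.2 fun i => ?_) d
  simpa using congrArg (fun t : AddMonoidAlgebra S (ZMod m) => t.coeff i) h

end Cfsg.Agent.Dih3572
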