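import Cfsg.Agent.Lib.Dihedral3572.Basic

/-!
Rational functions on a cyclic group and the sets whose cube is a multiple of themselves
modulo the whole group.
-/

set_option autoImplicit false
set_option linter.unusedSectionVars false

namespace Cfsg.Agent.Dih3572

open AddMonoidAlgebra

variable {n : ℕ} [NeZero n]

/-- constant on generators of each cyclic subgroup -/
def Rat' {S : Type} (f : ZMod n → S) : Prop := ∀ (u : (ZMod n)ˣ) (i : ZMod n), f (u * i) = f i

theorem exists_unit_mul {i j : ZMod n} (h : addOrderOf i = addOrderOf j) :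
    ∃ u : (ZMod n)ˣ, j = u * i := by
  set o := addOrderOf i with ho
  have hcard : ∀ x : ZMod n, Nat.card (AddSubgroup.zmultiples x) = addOrderOf x :=
    Nat.card_zmultiples
  have hj : j ∈ AddSubgroup.zmultiples i := by
    classical
    have hi' : ∀ x : ZMod n, addOrderOf x = o →
        (AddSubgroup.zmultiples x : Set (ZMod n)) = {y | o • y = 0} := by
      intro x hx
      refine Set.eq_of_subset_of_ncard_le (fun y hy => ?_) ?_ (Set.toFinite _)
      · obtain ⟨k, rfl⟩ := AddSubgroup.mem_zmultiples_iff.mp hy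
        show o • (k • x) = 0
        rw [smul_comm, ← hx, addOrderOf_nsmul_eq_zero, smul_zero]
      · have h1 := IsAddCyclic.card_nsmul_eq_zero_le (α := ZMod n)
          (show 0 < o from hx ▸ addOrderOf_pos x)
        calc ({y : ZMod n | o • y = 0} : Set (ZMod n)).ncard
              = (Finset.univ.filter fun y : ZMod n => o • y = 0).card := by
              rw [← Set.ncard_coe_finset]; congr 1; ext y; simp
          _ ≤ o := h1
          _ = (AddSubgroup.zmultiples x : Set (ZMod n)).ncard := by
              rw [← Nat.card_coe_set_eq]; exact ((hcard x).trans hx).symm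
    have : j ∈ (AddSubgroup.zmultiples i : Set (ZMod n)) := by
      rw [hi' i rfl, ← hi' j h.symm]
      exact AddSubgroup.mem_zmultiples j
    exact this
  obtain ⟨k, hk⟩ := AddSubgroup.mem_zmultiples_iff.mp hj
  have hon : o ∣ n := by
    have := addOrderOf_dvd_natCard i
    rwa [Nat.card_zmod] at this
  have : NeZero o := ⟨(addOrderOf_pos i).ne'⟩
  have hku : IsUnit (k : ZMod o) := by
    have hoj : AddSubgroup.zmultiples j = AddSubgroup.zmultiples i := by
      refine AddSubgroup.eq_of_le_of_card_ge ?_ (by rw [hcard, hcard, ← h])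
      rw [AddSubgroup.zmultiples_le]; exact hj
    obtain ⟨l, hl⟩ := AddSubgroup.mem_zmultiples_iff.mp (hoj ▸ AddSubgroup.mem_zmultiples i)
    refine IsUnit.of_mul_eq_one (l : ZMod o) ?_
    rw [← hk, smul_smul] at hl
    have h0 : ((l * k - 1) • i) = 0 := by rw [sub_smul, hl, one_smul, sub_self]
    have h2 := (ZMod.intCast_zmod_eq_zero_iff_dvd _ o).mpr
      (addOrderOf_dvd_iff_zsmul_eq_zero.mpr h0)
    push_cast at h2
    rw [mul_comm]
    exact sub_eq_zero.mp h2
  obtain ⟨u, hu⟩ := ZMod.unitsMap_surjective hon hku.unit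
  refine ⟨u, ?_⟩
  have hu' : (ZMod.castHom hon (ZMod o)) (u : ZMod n) = (k : ZMod o) := by
    have := congrArg (fun v : (ZMod o)ˣ => (v : ZMod o)) hu
    simpa [ZMod.unitsMap] using this
  have h3 : ((((u : ZMod n).val : ℤ) - k : ℤ) : ZMod o) = 0 := by
    rw [Int.cast_sub, ← hu', sub_eq_zero, Int.cast_natCast]
    conv_rhs => rw [← ZMod.natCast_zmod_val (u : ZMod n), map_natCast]
  have h4 := (addOrderOf_dvd_iff_zsmul_eq_zero (x := i)).mp
    ((ZMod.intCast_zmod_eq_zero_iff_dvd _ o).mp h3)
  rw [sub_smul, sub_eq_zero, natCast_zsmul, nsmul_eq_mul, ZMod.natCast_zmod_val] at h4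
  rw [← hk, h4]

theorem Rat'.eq_of_order {S : Type} {f : ZMod n → S} (hf : Rat' f) {i j : ZMod n}
    (h : addOrderOf i = addOrderOf j) : f i = f j := by
  obtain ⟨u, rfl⟩ := exists_unit_mul h
  exact (hf u i).symm

section prime

variable (p : ℕ) [hp : Fact p.Prime]

/-- the canonical element of order `p` -/
def zel (n : ℕ) : ZMod n := ((n / p : ℕ) : ZMod n)

theorem addOrderOf_zel (hpn : p ∣ n) : addOrderOf (zel p n) = p := by
  rw [zel, ZMod.addOrderOf_coe _ (NeZero.ne n),
    Nat.gcd_eq_right (Nat.div_dvd_of_dvd hpn), Nat.div_div_self hpn (NeZero.ne n)]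

theorem zel_ne (hpn : p ∣ n) : zel p n ≠ 0 := fun h => by
  have := addOrderOf_zel p hpn
  rw [h, addOrderOf_zero] at this
  exact hp.out.one_lt.ne this

theorem nsmul_zel (hpn : p ∣ n) : p • zel p n = 0 := by
  have := addOrderOf_nsmul_eq_zero (zel p n)
  rwa [addOrderOf_zel p hpn] at this

theorem exists_smul_zel (hpn : p ∣ n) {d : ZMod n} (hd : p • d = 0) :
    ∃ j : ℕ, j < p ∧ d = j • zel p n := by
  classical
  have hsub : (Finset.range p).image (fun j => j • zel p n) ⊆
      Finset.univ.filter fun y : ZMod n => p • y = 0 := by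
    intro y hy
    obtain ⟨j, -, rfl⟩ := Finset.mem_image.mp hy
    refine Finset.mem_filter.mpr ⟨Finset.mem_univ _, ?_⟩
    rw [smul_comm, nsmul_zel p hpn, smul_zero]
  have hc : ((Finset.range p).image fun j => j • zel p n).card = p := by
    rw [Finset.card_image_of_injOn, Finset.card_range]
    intro a ha b hb hab
    refine nsmul_injOn_Iio_addOrderOf ?_ ?_ hab <;> rw [Set.mem_Iio, addOrderOf_zel p hpn]
    · exact Finset.mem_range.mp ha
    · exact Finset.mem_range.mp hb
  have := Finset.eq_of_subset_of_card_le hsub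
    (hc.symm ▸ IsAddCyclic.card_nsmul_eq_zero_le hp.out.pos)
  have hd' : d ∈ Finset.univ.filter fun y : ZMod n => p • y = 0 :=
    Finset.mem_filter.mpr ⟨Finset.mem_univ _, hd⟩
  rw [← this] at hd'
  obtain ⟨j, hj, rfl⟩ := Finset.mem_image.mp hd'
  exact ⟨j, Finset.mem_range.mp hj, rfl⟩

theorem order_of_dvd_image {x : ZMod n} (hx : p ∣ addOrderOf x) :
    addOrderOf x = p * addOrderOf (p • x) := by
  rw [addOrderOf_nsmul, Nat.gcd_eq_right hx, Nat.mul_div_cancel' hx]

theorem order_of_not_dvd_image {x : ZMod n} (hx : ¬ p ∣ addOrderOf x) :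
    addOrderOf (p • x) = addOrderOf x := by
  rw [addOrderOf_nsmul, Nat.gcd_comm, (hp.out.coprime_iff_not_dvd.mpr hx), Nat.div_one]

theorem dvd_order_of_image {x : ZMod n} (h : p ∣ addOrderOf (p • x)) : p ∣ addOrderOf x := by
  by_contra hx
  rw [order_of_not_dvd_image p hx] at h
  exact hx h

/-- a prime-to-`p` part of a root -/
theorem exists_root (x : ZMod n) (h : ¬ p ∣ addOrderOf (p • x)) :
    ∃ k, p • k = p • x ∧ ¬ p ∣ addOrderOf k := by
  set y := p • x
  have hc : Nat.gcd p (addOrderOf y) = 1 := hp.out.coprime_iff_not_dvd.mpr h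
  have hb := Nat.gcd_eq_gcd_ab p (addOrderOf y)
  rw [hc] at hb
  refine ⟨(Nat.gcdA p (addOrderOf y)) • y, ?_, fun hd => h ?_⟩
  · have h1 := congrArg (fun t : ℤ => t • y) hb
    simp only [Nat.cast_one, one_smul, add_smul] at h1
    rw [mul_comm ((addOrderOf y : ℕ) : ℤ), mul_smul, mul_smul, natCast_zsmul, natCast_zsmul,
      addOrderOf_nsmul_eq_zero, smul_zero, add_zero] at h1
    exact h1.symm
  · refine hd.trans ?_
    refine addOrderOf_dvd_of_nsmul_eq_zero ?_
    rw [smul_comm, addOrderOf_nsmul_eq_zero, smul_zero]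

theorem order_add_smul {k : ZMod n} (hpn : p ∣ n) (hk : ¬ p ∣ addOrderOf k) {j : ℕ}
    (hj : ¬ p ∣ j) : addOrderOf (k + j • zel p n) = p * addOrderOf k := by
  have hj' : addOrderOf (j • zel p n) = p := by
    rw [addOrderOf_nsmul, addOrderOf_zel p hpn, hp.out.coprime_iff_not_dvd.mpr hj, Nat.div_one]
  rw [AddCommute.addOrderOf_add_eq_mul_addOrderOf_of_coprime (AddCommute.all _ _), hj', mul_comm]
  rw [hj']
  exact (hp.out.coprime_iff_not_dvd.mpr hk).symm

variable {S : Type}

/-- periodicity needs to be checked on elements of order prime to `p` only -/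
theorem Rat'.periodic {f : ZMod n → S} (hf : Rat' f) (hpn : p ∣ n) {x : ZMod n}
    (h : ∀ k, ¬ p ∣ addOrderOf k → p • k = p • x → f (k + zel p n) = f k) :
    f (x + zel p n) = f x := by
  have hpx : p • (x + zel p n) = p • x := by rw [nsmul_add, nsmul_zel p hpn, add_zero]
  by_cases hc : p ∣ addOrderOf (p • x)
  · refine hf.eq_of_order ?_
    rw [order_of_dvd_image p (dvd_order_of_image p hc),
      order_of_dvd_image p (dvd_order_of_image p (hpx ▸ hc)), hpx]
  · obtain ⟨k, hk, hk'⟩ := exists_root p x hc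
    have hfk := h k hk' hk
    have key : ∀ y, p • y = p • x → f y = f k := by
      intro y hy
      obtain ⟨j, hj, hjd⟩ := exists_smul_zel p hpn
        (show p • (y - k) = 0 by rw [nsmul_sub, hy, hk, sub_self])
      rw [show y = k + j • zel p n by rw [← hjd]; abel]
      rcases Nat.eq_zero_or_pos j with rfl | hj0
      · simp
      · refine (hf.eq_of_order ?_).trans hfk
        have h1 := order_add_smul p hpn hk' (j := 1) (by simpa using hp.out.ne_one)
        rw [one_nsmul] at h1
        rw [h1, order_add_smul p hpn hk' (Nat.not_dvd_of_pos_of_lt hj0 hj)]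
    rw [key _ hpx, key x rfl]

theorem coeff_frobenius (α : AddMonoidAlgebra (ZMod p) (ZMod n)) (y : ZMod n) :
    (α ^ p).coeff y = ∑ x ∈ Finset.univ.filter (fun x : ZMod n => p • x = y), α.coeff x := by
  classical
  haveI : CharP (AddMonoidAlgebra (ZMod p) (ZMod n)) p :=
    charP_of_injective_ringHom (f := AddMonoidAlgebra.singleZeroRingHom)
      (fun a b h => by
        have h2 := congrArg (fun t : AddMonoidAlgebra (ZMod p) (ZMod n) => t.coeff 0) h
        simpa using h2) p
  have hα : α = ∑ x, AddMonoidAlgebra.single x (α.coeff x) := by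
    ext i; simp [AddMonoidAlgebra.coeff_sum, Finsupp.single_apply]
  conv_lhs => rw [hα, sum_pow_char]
  rw [AddMonoidAlgebra.coeff_sum, Finsupp.finsetSum_apply, Finset.sum_filter]
  refine Finset.sum_congr rfl fun x _ => ?_
  simp [AddMonoidAlgebra.single_pow, Finsupp.single_apply]

theorem frob_none (α : AddMonoidAlgebra (ZMod p) (ZMod n)) {y : ZMod n}
    (hy : ∀ x, p • x ≠ y) : (α ^ p).coeff y = 0 := by
  rw [coeff_frobenius, Finset.sum_eq_zero]
  intro x hx
  exact absurd (Finset.mem_filter.mp hx).2 (hy x)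

theorem roots_eq (hpn : p ∣ n) (x : ZMod n) :
    (Finset.univ.filter fun y : ZMod n => p • y = p • x) =
      (Finset.range p).image (fun j => x + j • zel p n) := by
  classical
  ext y
  simp only [Finset.mem_filter, Finset.mem_univ, true_and, Finset.mem_image, Finset.mem_range]
  constructor
  · intro hy
    obtain ⟨j, hj, hjd⟩ := exists_smul_zel p hpn
      (show p • (y - x) = 0 by rw [nsmul_sub, hy, sub_self])
    exact ⟨j, hj, by rw [← hjd]; abel⟩
  · rintro ⟨j, -, rfl⟩
    rw [nsmul_add, smul_comm p j, nsmul_zel p hpn, smul_zero, add_zero]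

theorem sum_roots {M : Type} [AddCommMonoid M] (hpn : p ∣ n) (x : ZMod n) (g : ZMod n → M) :
    ∑ y ∈ Finset.univ.filter (fun y : ZMod n => p • y = p • x), g y =
      ∑ j ∈ Finset.range p, g (x + j • zel p n) := by
  classical
  rw [roots_eq p hpn, Finset.sum_image]
  intro a ha b hb hab
  refine nsmul_injOn_Iio_addOrderOf ?_ ?_ (add_left_cancel hab) <;>
    rw [Set.mem_Iio, addOrderOf_zel p hpn]
  · exact Finset.mem_range.mp ha
  · exact Finset.mem_range.mp hb

theorem frob_dvd (hpn : p ∣ n) (α : AddMonoidAlgebra (ZMod p) (ZMod n))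
    (hα : Rat' (fun i => α.coeff i)) {y : ZMod n} (hy : p ∣ addOrderOf y) :
    (α ^ p).coeff y = 0 := by
  by_cases h : ∀ x, p • x ≠ y
  · exact frob_none p α h
  · push_neg at h
    obtain ⟨x, rfl⟩ := h
    rw [coeff_frobenius, sum_roots p hpn, Finset.sum_congr rfl (g := fun _ => α.coeff x)]
    · simp
    · intro j _
      refine hα.eq_of_order ?_
      have hpx : p • (x + j • zel p n) = p • x := by
        rw [nsmul_add, smul_comm p j, nsmul_zel p hpn, smul_zero, add_zero]
      rw [order_of_dvd_image p (dvd_order_of_image p hy),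
        order_of_dvd_image p (dvd_order_of_image p (by rw [hpx]; exact hy)), hpx]

theorem frob_coprime (hpn : p ∣ n) (α : AddMonoidAlgebra (ZMod p) (ZMod n))
    (hα : Rat' (fun i => α.coeff i)) {k : ZMod n} (hk : ¬ p ∣ addOrderOf k) :
    (α ^ p).coeff (p • k) = α.coeff k - α.coeff (k + zel p n) := by
  obtain ⟨q, hq⟩ : ∃ q, p = q + 1 := ⟨p - 1, (Nat.succ_pred_eq_of_pos hp.out.pos).symm⟩
  rw [coeff_frobenius, sum_roots p hpn]
  rw [← Finset.sum_range_add_sum_Ico _ (show 1 ≤ p from hp.out.one_lt.le), Finset.sum_range_one,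
    Finset.sum_congr rfl (g := fun _ => α.coeff (k + zel p n)) (s₂ := Finset.Ico 1 p)]
  · simp [Nat.cast_sub hp.out.one_lt.le, sub_eq_add_neg]
  · intro j hj
    refine hα.eq_of_order ?_
    have h1 := order_add_smul p hpn hk (j := 1) (by simpa using hp.out.ne_one)
    rw [one_nsmul] at h1
    rw [h1, order_add_smul p hpn hk
      (Nat.not_dvd_of_pos_of_lt (Finset.mem_Ico.mp hj).1 (Finset.mem_Ico.mp hj).2)]

theorem exists_not_image (hpn : p ∣ n) : ∀ x : ZMod n, p • x ≠ 1 := by
  intro x hx
  have h1 : addOrderOf (1 : ZMod n) = n := by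
    rw [← Nat.cast_one, ZMod.addOrderOf_coe _ (NeZero.ne n), Nat.gcd_one_right, Nat.div_one]
  have h2 : addOrderOf x ∣ n := by
    have := addOrderOf_dvd_natCard x
    rwa [Nat.card_zmod] at this
  have h3 : p ∣ addOrderOf x := dvd_order_of_image p (by rw [hx, h1]; exact hpn)
  have h4 := order_of_dvd_image p h3
  rw [hx, h1] at h4
  have := Nat.le_of_dvd (NeZero.pos n) h2
  rw [h4] at this
  have := Nat.mul_le_mul_right n hp.out.two_le
  have := NeZero.pos n
  omega

end prime

end Cfsg.Agent.Dih3572
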