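import Cfsg.Agent.Lib.Dihedral3572.Cyc

/-!
A rational subset `A` of a cyclic group, not containing `0`, whose cube is `b² A` modulo the
whole group has `b` or `n - b` elements.
-/

set_option autoImplicit false
set_option linter.unusedSectionVars false
set_option linter.style.haveILetI false

namespace Cfsg.Agent.Dih3572

open AddMonoidAlgebra

variable {n : ℕ} [NeZero n]

/-- total of the coefficients -/
noncomputable def aug {R : Type} [CommRing R] (x : AddMonoidAlgebra R (ZMod n)) : R :=
  ∑ i, x.coeff i

/-- constant element -/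
noncomputable def cst {R : Type} [CommRing R] (γ : R) : AddMonoidAlgebra R (ZMod n) :=
  ofFunA fun _ => γ

@[simp] theorem coeff_cst {R : Type} [CommRing R] (γ : R) (i : ZMod n) :
    (cst γ : AddMonoidAlgebra R (ZMod n)).coeff i = γ := coeff_mkA _ _

theorem aug_mul {R : Type} [CommRing R] (x y : AddMonoidAlgebra R (ZMod n)) :
    aug (x * y) = aug x * aug y := by
  simp only [aug, coeff_mul_add]
  rw [Finset.sum_comm, Finset.sum_mul]
  refine Finset.sum_congr rfl fun h _ => ?_
  rw [← Finset.mul_sum]
  congr 1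
  exact Fintype.sum_equiv (Equiv.addLeft (-h)) _ _ fun g => rfl

theorem mul_cst {R : Type} [CommRing R] (x : AddMonoidAlgebra R (ZMod n)) (γ : R) :
    x * cst γ = cst (aug x * γ) := by
  ext i
  simp [coeff_mul_add, aug, Finset.sum_mul]

theorem aug_cst {R : Type} [CommRing R] (γ : R) :
    aug (cst γ : AddMonoidAlgebra R (ZMod n)) = (n : R) * γ := by simp [aug]

theorem cst_add {R : Type} [CommRing R] (a b : R) :
    (cst (a + b) : AddMonoidAlgebra R (ZMod n)) = cst a + cst b := by ext i; simp

theorem aug_nonneg {α : AddMonoidAlgebra ℤ (ZMod n)} (h01 : ∀ i, α.coeff i = 0 ∨ α.coeff i = 1)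
    {i : ZMod n} (hi : α.coeff i = 1) : 0 < aug α :=
  Finset.sum_pos' (fun j _ => by rcases h01 j with h | h <;> simp [h])
    ⟨i, Finset.mem_univ _, by simp [hi]⟩

/-- supported on elements of order prime to `p` -/
def Supp (p : ℕ) {R : Type} [CommRing R] (x : AddMonoidAlgebra R (ZMod n)) : Prop :=
  ∀ i, p ∣ addOrderOf i → x.coeff i = 0

theorem Supp.mul {p : ℕ} (hp : p.Prime) {R : Type} [CommRing R]
    {x y : AddMonoidAlgebra R (ZMod n)} (hx : Supp p x) (hy : Supp p y) : Supp p (x * y) := by
  intro i hi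
  rw [coeff_mul_add]
  refine Finset.sum_eq_zero fun h _ => ?_
  by_cases h1 : p ∣ addOrderOf h
  · rw [hx h h1, zero_mul]
  · by_cases h2 : p ∣ addOrderOf (-h + i)
    · rw [hy _ h2, mul_zero]
    · exfalso
      have h3 := (AddCommute.all h (-h + i)).addOrderOf_add_dvd_lcm
      rw [add_neg_cancel_left] at h3
      exact (hp.dvd_mul.mp ((hi.trans h3).trans (Nat.lcm_dvd_mul _ _))).elim h1 h2

theorem Supp.add {p : ℕ} {R : Type} [CommRing R]
    {x y : AddMonoidAlgebra R (ZMod n)} (hx : Supp p x) (hy : Supp p y) : Supp p (x + y) :=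
  fun i hi => by simp [hx i hi, hy i hi]

theorem Supp.smul {p : ℕ} {R : Type} [CommRing R] (c : R)
    {x : AddMonoidAlgebra R (ZMod n)} (hx : Supp p x) : Supp p (c • x) :=
  fun i hi => by simp [hx i hi]

/-- the exceptional case: all but a subgroup of order prime to `p` -/
theorem supported_case {p : ℕ} (hp : p.Prime) (hpn : p ∣ n) {α : AddMonoidAlgebra ℤ (ZMod n)}
    (hs : Supp p α) {b : ℕ} {γ : ℤ} (heq : α ^ 3 = ((b : ℤ) ^ 2) • α + cst γ) (hpos : 0 < aug α) :
    aug α = b := by
  haveI := Fact.mk hp
  obtain ⟨z, hz⟩ : ∃ z : ZMod n, p ∣ addOrderOf z := ⟨zel p n, by rw [addOrderOf_zel p hpn]⟩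
  have h3 : Supp p (α ^ 3) := by
    rw [pow_succ, pow_two]; exact (hs.mul hp hs).mul hp hs
  have hγ : γ = 0 := by
    have := congrArg (fun t : AddMonoidAlgebra ℤ (ZMod n) => t.coeff z) heq
    simp only [AddMonoidAlgebra.coeff_add, Finsupp.add_apply, AddMonoidAlgebra.coeff_smul_apply,
      coeff_cst, h3 z hz, hs z hz, smul_zero, zero_add] at this
    exact this.symm
  have h4 := congrArg aug heq
  rw [pow_succ, pow_two, aug_mul, aug_mul] at h4
  have h5 : aug (((b : ℤ) ^ 2) • α + cst γ) = (b : ℤ) ^ 2 * aug α := by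
    simp only [aug, hγ, Finset.mul_sum, AddMonoidAlgebra.coeff_add, Finsupp.add_apply, AddMonoidAlgebra.coeff_smul_apply, coeff_cst, add_zero, smul_eq_mul]
  rw [h5] at h4
  have h6 : aug α * aug α = (b : ℤ) * b := by
    have := mul_right_cancel₀ hpos.ne' (h4.trans (by ring : (b : ℤ) ^ 2 * aug α = ((b:ℤ) * b) * aug α))
    exact this
  rcases mul_self_eq_mul_self_iff.mp h6 with h | h
  · exact h
  · omega

/-- reduction modulo the subgroup of order `p` -/
theorem quotient_data (p : ℕ) [hp : Fact p.Prime] {n' : ℕ} [NeZero n'] (hn' : n = p * n')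
    (hd : n' ∣ n) :
    ∃ (π : AddMonoidAlgebra ℤ (ZMod n) →+* AddMonoidAlgebra ℤ (ZMod n'))
      (φ : ZMod n →+ ZMod n') (sec : ZMod n' → ZMod n),
      (∀ y, φ (sec y) = y) ∧ (∀ i, φ i = ZMod.castHom hd (ZMod n') i) ∧
      (∀ x : AddMonoidAlgebra ℤ (ZMod n), (∀ i, x.coeff (i + zel p n) = x.coeff i) →
        ∀ i, x.coeff (sec (φ i)) = x.coeff i) ∧
      (∀ x : AddMonoidAlgebra ℤ (ZMod n), (∀ i, x.coeff (i + zel p n) = x.coeff i) →
        ∀ y, (π x).coeff y = (p : ℤ) * x.coeff (sec y)) ∧
      (∀ (c : ℤ) (x : AddMonoidAlgebra ℤ (ZMod n)), π (c • x) = c • π x) ∧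
      (∀ x, aug (π x) = aug x) ∧
      (∀ (u : (ZMod n')ˣ) (y : ZMod n'), ∃ v : (ZMod n)ˣ,
        (u : ZMod n') * y = φ ((v : ZMod n) * sec y)) := by
  have hpn : p ∣ n := ⟨n', hn'⟩
  let φ := (ZMod.castHom hd (ZMod n')).toAddMonoidHom
  have hsurj : Function.Surjective φ := ZMod.castHom_surjective hd
  choose sec hsec using hsurj
  have hker : ∀ x y : ZMod n, φ x = φ y ↔ p • x = p • y := by
    intro x y
    rw [← sub_eq_zero, ← map_sub, ← sub_eq_zero (a := p • x), ← nsmul_sub]
    set d := x - y with hd'
    show (ZMod.castHom hd (ZMod n')) d = 0 ↔ _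
    rw [← ZMod.natCast_zmod_val d, map_natCast, nsmul_eq_mul, ← Nat.cast_mul,
      ZMod.natCast_eq_zero_iff, ZMod.natCast_eq_zero_iff]
    constructor
    · exact fun h => hn'.dvd.trans (Nat.mul_dvd_mul_left p h)
    · exact fun h => (Nat.mul_dvd_mul_iff_left hp.out.pos).mp (hn'.symm.dvd.trans h)
  have hper' : ∀ x : AddMonoidAlgebra ℤ (ZMod n), (∀ i, x.coeff (i + zel p n) = x.coeff i) →
      ∀ (j : ℕ) i, x.coeff (i + j • zel p n) = x.coeff i := by
    intro x hx j
    induction j with
    | zero => simp
    | succ j ihj => intro i; rw [succ_nsmul, ← add_assoc, hx, ihj]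
  have hfil : ∀ (x : AddMonoidAlgebra ℤ (ZMod n)) (y : ZMod n'),
      (AddMonoidAlgebra.mapDomainRingHom ℤ φ x).coeff y =
        ∑ z ∈ Finset.univ.filter (fun z => φ z = y), x.coeff z := by
    intro x y
    show (Finsupp.mapDomain φ x.coeff) y = _
    rw [Finsupp.mapDomain, Finsupp.sum_fintype _ _ (by simp), Finsupp.finsetSum_apply,
      Finset.sum_filter]
    exact Finset.sum_congr rfl fun z _ => by rw [Finsupp.single_apply]
  refine ⟨AddMonoidAlgebra.mapDomainRingHom ℤ φ, φ, sec, hsec, fun i => rfl, fun x hx i => ?_, fun x hx y => ?_,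
    fun c x => map_zsmul (AddMonoidAlgebra.mapDomainRingHom ℤ φ) c x, fun x => ?_, fun u y => ?_⟩
  · obtain ⟨j, -, hj⟩ := exists_smul_zel p hpn
      (show p • (sec (φ i) - i) = 0 by
        rw [nsmul_sub, (hker _ _).mp (hsec (φ i)), sub_self])
    rw [show sec (φ i) = i + j • zel p n by rw [← hj]; abel, hper' x hx]
  · rw [hfil]
    have : (Finset.univ.filter fun z : ZMod n => φ z = y) =
        Finset.univ.filter fun z : ZMod n => p • z = p • sec y := by
      ext z
      simp only [Finset.mem_filter, Finset.mem_univ, true_and]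
      rw [← hker, hsec]
    rw [this, sum_roots p hpn, Finset.sum_congr rfl fun j _ => hper' x hx j (sec y)]
    simp
  · simp only [aug, hfil]
    exact Finset.sum_fiberwise Finset.univ (fun z => φ z) (fun z => x.coeff z)
  · obtain ⟨v, hv⟩ := ZMod.unitsMap_surjective hd u
    refine ⟨v, ?_⟩
    have hv' : φ (v : ZMod n) = (u : ZMod n') := by
      have := congrArg (fun w : (ZMod n')ˣ => (w : ZMod n')) hv
      simpa [ZMod.unitsMap, φ] using this
    show _ = (ZMod.castHom hd (ZMod n')) _
    rw [map_mul]
    show _ = φ (v : ZMod n) * φ (sec y)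
    rw [hv', hsec]

theorem mod_two : ∀ a b d : ZMod 2, a + b = a + 3 * b + 2 * d := by decide

/-- the involution case -/
theorem pass_two {n' : ℕ} (hn' : n = 2 * n') (h2 : ∀ p, p.Prime → p ∣ n → p = 2)
    (W : AddMonoidAlgebra ℤ (ZMod n)) (γ : ℤ)
    (h : 3 * W + 3 * W ^ 2 + W ^ 3 = W + cst γ) (hrat : Rat' (fun i => W.coeff i))
    (hper : ∀ x, W.coeff (x + zel 2 n) = W.coeff x) (h0 : W.coeff 0 = 0)
    (h01 : ∀ i, W.coeff i = 0 ∨ W.coeff i = 1) :
    ∀ x, x ≠ 0 → x ≠ zel 2 n → W.coeff x = W.coeff 1 := by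
  haveI : Fact (Nat.Prime 2) := ⟨Nat.prime_two⟩
  haveI : NeZero n' := ⟨fun h => NeZero.ne n (by rw [hn', h, mul_zero])⟩
  have hpn : 2 ∣ n := ⟨n', hn'⟩
  have hd : n' ∣ n := ⟨2, by rw [hn', mul_comm]⟩
  obtain ⟨π, φ, sec, hsec, hφc, hsecπ, hπ, hπs, -, hlift⟩ := quotient_data 2 hn' hd
  let β : AddMonoidAlgebra ℤ (ZMod n') := ofFunA fun y => W.coeff (sec y)
  have hsW := hsecπ W hper
  have hβφ : ∀ x, β.coeff (φ x) = W.coeff x := fun x => by simp [β, hsW x]
  have hπW : π W = 2 * β := by
    ext y; rw [hπ W hper y, two_mul β]; simp [β]; ring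
  have hπc : π (cst γ) = cst (2 * γ) := by
    ext y; rw [hπ (cst γ) (fun x => by simp) y]; simp
  have h3 : ∀ y, 2 * β.coeff y + 6 * (β ^ 2).coeff y + 4 * (β ^ 3).coeff y = γ := by
    intro y
    have h1 := congrArg π h
    simp only [map_add, map_mul, map_pow, map_ofNat, hπW, hπc] at h1
    have h2 : (4 : ℤ) • β + (12 : ℤ) • β ^ 2 + (8 : ℤ) • β ^ 3 = cst (2 * γ) := by
      simp only [zsmul_eq_mul]; push_cast; linear_combination h1
    have h3 := congrArg (fun t : AddMonoidAlgebra ℤ (ZMod n') => t.coeff y) h2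
    simp only [AddMonoidAlgebra.coeff_add, Finsupp.add_apply, AddMonoidAlgebra.coeff_smul_apply,
      coeff_cst, smul_eq_mul] at h3
    linarith
  have hβ0 : β.coeff 0 = 0 := by rw [← map_zero φ, hβφ, h0]
  obtain ⟨g, hg⟩ : (2 : ℤ) ∣ γ :=
    ⟨3 * (β ^ 2).coeff 0 + 2 * (β ^ 3).coeff 0, by rw [← h3 0, hβ0]; ring⟩
  let c := AddMonoidAlgebra.mapRingHom (ZMod n') (Int.castRingHom (ZMod 2)) β
  have hc : ∀ y, c.coeff y = ((β.coeff y : ℤ) : ZMod 2) := fun y => by simp [c]
  have hc2 : ∀ y, c.coeff y + (c ^ 2).coeff y = (g : ZMod 2) := by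
    intro y
    have h4 : β.coeff y + 3 * (β ^ 2).coeff y + 2 * (β ^ 3).coeff y = g := by
      have := h3 y; rw [hg] at this; linarith
    have h5 : (c ^ 2).coeff y = (((β ^ 2).coeff y : ℤ) : ZMod 2) := by simp [c, ← map_pow]
    rw [hc, h5, ← h4]
    push_cast
    exact mod_two _ _ _
  have hcrat : Rat' (fun y => c.coeff y) := by
    intro u y
    obtain ⟨v, hv⟩ := hlift u y
    simp only [hc]
    rw [hv, hβφ]
    simp only [β, coeff_mkA]
    exact congrArg _ (hrat v (sec y))
  have key : ∀ y : ZMod n', y ≠ 0 → c.coeff y = g := by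
    intro y hy
    obtain ⟨q, hq, hqd⟩ := Nat.exists_prime_and_dvd
      (show addOrderOf y ≠ 1 from fun h => hy (AddMonoid.addOrderOf_eq_one_iff.mp h))
    have hyn : addOrderOf y ∣ n' := by
      have := addOrderOf_dvd_natCard y
      rwa [Nat.card_zmod] at this
    obtain rfl := h2 q hq (hqd.trans (hyn.trans hd))
    have := hc2 y
    rwa [frob_dvd 2 (hqd.trans hyn) c hcrat hqd, add_zero] at this
  intro x hx hxz
  have hφx : φ x ≠ 0 := by
    intro h'
    obtain ⟨j, hj, hjd⟩ := exists_smul_zel 2 hpn (d := x) (by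
      have h5 : (ZMod.castHom hd (ZMod n')) x = φ x := (hφc x).symm
      rw [← ZMod.natCast_zmod_val x, nsmul_eq_mul, ← Nat.cast_mul, ZMod.natCast_eq_zero_iff]
      refine hn'.dvd.trans (Nat.mul_dvd_mul_left 2 ?_)
      rw [← ZMod.natCast_eq_zero_iff, ← map_natCast (ZMod.castHom hd (ZMod n')),
        ZMod.natCast_zmod_val, h5, h'])
    interval_cases j
    · exact hx (by simpa using hjd)
    · exact hxz (by simpa using hjd)
  have hφ1 : φ (1 : ZMod n) ≠ 0 := fun h1 => hφx (by
    rw [← ZMod.natCast_zmod_val x, ← nsmul_one, map_nsmul, h1, smul_zero])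
  have e : c.coeff (φ x) = c.coeff (φ 1) := by rw [key _ hφx, key _ hφ1]
  rw [hc, hc, hβφ, hβφ] at e
  rcases h01 x with ha | ha <;> rcases h01 1 with hb | hb <;> simp [ha, hb] at e ⊢

theorem cube_lemma_aux : ∀ (N n : ℕ) [NeZero n], n ≤ N → ∀ (α : AddMonoidAlgebra ℤ (ZMod n)),
    (∀ i, α.coeff i = 0 ∨ α.coeff i = 1) → α.coeff 0 = 0 → (∃ i, α.coeff i = 1) →
    Rat' (fun i => α.coeff i) → ∀ (b : ℕ) (γ : ℤ), α ^ 3 = ((b : ℤ) ^ 2) • α + cst γ →
    aug α = b ∨ aug α = (n : ℤ) - b := by
  intro N
  induction N with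
  | zero => intro n _ hn; exact absurd (Nat.le_zero.mp hn) (NeZero.ne n)
  | succ N ih =>
    intro n _ hn α h01 h0 ⟨i₁, hi₁⟩ hrat b γ heq
    have hn1 : 1 < n := by
      rcases Nat.lt_or_ge 1 n with h | h
      · exact h
      · have h1 : n = 1 := le_antisymm h (NeZero.pos n)
        subst h1
        rw [Subsingleton.elim i₁ 0, h0] at hi₁
        exact absurd hi₁ (by norm_num)
    -- the periodic case
    have periodic : ∀ p : ℕ, p.Prime → p ∣ n → (∀ x, α.coeff (x + zel p n) = α.coeff x) →
        aug α = b ∨ aug α = (n : ℤ) - b := by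
      intro p hp hpn hper
      haveI := Fact.mk hp
      obtain ⟨n', hn'⟩ := hpn
      haveI : NeZero n' := ⟨fun h => NeZero.ne n (by rw [hn', h, mul_zero])⟩
      have hd : n' ∣ n := ⟨p, by rw [hn', mul_comm]⟩
      have hpn : p ∣ n := ⟨n', hn'⟩
      obtain ⟨π, φ, sec, hsec, hφc, hsecπ, hπ, hπs, haugπ, hlift⟩ := quotient_data p hn' hd
      let β : AddMonoidAlgebra ℤ (ZMod n') := ofFunA fun y => α.coeff (sec y)
      have hsecα : ∀ x, α.coeff (sec (φ x)) = α.coeff x := hsecπ _ hper
      have hπα : π α = (p : ℤ) • β := by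
        ext y
        rw [hπ α hper y, AddMonoidAlgebra.coeff_smul_apply]
        simp only [β, coeff_mkA, smul_eq_mul]
      have hπc : π (cst γ) = cst ((p : ℤ) * γ) := by
        ext y; rw [hπ (cst γ) (fun x => by simp) y]; simp
      have hb3 : ((p : ℤ) ^ 2) • β ^ 3 = ((b : ℤ) ^ 2) • β + cst γ := by
        have h := congrArg π heq
        rw [map_pow, map_add, hπc, hπα] at h
        rw [hπs, hπα,
          _root_.smul_pow] at h
        ext y
        have h2 := congrArg (fun t : AddMonoidAlgebra ℤ (ZMod n') => t.coeff y) h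
        simp only [AddMonoidAlgebra.coeff_add, Finsupp.add_apply, AddMonoidAlgebra.coeff_smul_apply,
          coeff_cst, smul_eq_mul] at h2 ⊢
        refine mul_left_cancel₀ (show ((p : ℤ)) ≠ 0 by exact_mod_cast hp.ne_zero) ?_
        linear_combination h2
      have hβ0 : β.coeff 0 = 0 := by
        simp only [β, coeff_mkA]
        rw [show (0 : ZMod n') = φ 0 from (map_zero φ).symm, hsecα, h0]
      have hγ : ((p : ℤ) ^ 2) ∣ γ := by
        have h2 := congrArg (fun t : AddMonoidAlgebra ℤ (ZMod n') => t.coeff 0) hb3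
        simp only [AddMonoidAlgebra.coeff_add, Finsupp.add_apply, AddMonoidAlgebra.coeff_smul_apply,
          coeff_cst, smul_eq_mul, hβ0, mul_zero, zero_add] at h2
        exact ⟨_, h2.symm⟩
      obtain ⟨g, hg⟩ := hγ
      have hβ1 : β.coeff (φ i₁) = 1 := by simp only [β, coeff_mkA]; rw [hsecα, hi₁]
      have hpb : p ∣ b := by
        have h2 := congrArg (fun t : AddMonoidAlgebra ℤ (ZMod n') => t.coeff (φ i₁)) hb3
        simp only [AddMonoidAlgebra.coeff_add, Finsupp.add_apply, AddMonoidAlgebra.coeff_smul_apply,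
          coeff_cst, smul_eq_mul, hβ1, mul_one, hg] at h2
        have h3 : ((p : ℤ) ^ 2) ∣ (b : ℤ) ^ 2 := ⟨_, (by linear_combination -h2 :
          (b : ℤ) ^ 2 = (p : ℤ) ^ 2 * ((β ^ 3).coeff (φ i₁) - g))⟩
        have h4 : p ∣ b ^ 2 := by
          have h5 : (p ^ 2 : ℕ) ∣ b ^ 2 := by exact_mod_cast h3
          exact (dvd_pow_self p two_ne_zero).trans h5
        exact hp.dvd_of_dvd_pow h4
      obtain ⟨b', rfl⟩ := hpb
      have heq' : β ^ 3 = ((b' : ℤ) ^ 2) • β + cst g := by
        ext y
        have h2 := congrArg (fun t : AddMonoidAlgebra ℤ (ZMod n') => t.coeff y) hb3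
        simp only [AddMonoidAlgebra.coeff_add, Finsupp.add_apply, AddMonoidAlgebra.coeff_smul_apply,
          coeff_cst, smul_eq_mul, hg] at h2 ⊢
        refine mul_left_cancel₀ (show ((p : ℤ) ^ 2) ≠ 0 by
          exact pow_ne_zero _ (by exact_mod_cast hp.ne_zero)) ?_
        push_cast at h2
        linear_combination h2
      have hβrat : Rat' (fun y => β.coeff y) := by
        intro u y
        obtain ⟨v, hv⟩ := hlift u y
        simp only [β, coeff_mkA, hv, hsecα]
        exact hrat v (sec y)
      have hlt : n' ≤ N := by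
        have : n' * 2 ≤ n' * p := Nat.mul_le_mul_left _ hp.two_le
        have := NeZero.pos n'
        rw [hn', mul_comm] at hn
        omega
      have haug : aug α = (p : ℤ) * aug β := by
        rw [← haugπ, hπα]
        simp only [aug, Finset.mul_sum, AddMonoidAlgebra.coeff_smul_apply, smul_eq_mul]
      rcases ih n' hlt β (fun y => by simp only [β, coeff_mkA]; exact h01 _) hβ0 ⟨_, hβ1⟩ hβrat b' g heq'
        with h | h
      · left; rw [haug, h]; push_cast; ring
      · right; rw [haug, h, hn']; push_cast; ring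
    by_cases hodd : ∃ p, p.Prime ∧ p ∣ n ∧ p ≠ 2
    · obtain ⟨p, hp, hpn, hp2⟩ := hodd
      haveI := Fact.mk hp
      let a := AddMonoidAlgebra.mapRingHom (ZMod n) (Int.castRingHom (ZMod p)) α
      have ha : ∀ i, a.coeff i = ((α.coeff i : ℤ) : ZMod p) := fun i => by simp [a]
      have harat : Rat' (fun i => a.coeff i) := fun u i => by
        simp only [ha]; exact congrArg _ (hrat u i)
      have ha3 : a ^ 3 = ((b : ZMod p) ^ 2) • a + cst (γ : ZMod p) := by
        have h := congrArg (AddMonoidAlgebra.mapRingHom (ZMod n) (Int.castRingHom (ZMod p))) heq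
        rw [map_pow] at h
        rw [h]
        ext i
        simp [a, -zsmul_eq_mul, smul_eq_mul]
        rw [zsmul_eq_mul]; push_cast; rfl
      obtain ⟨h, hh⟩ : ∃ h, p = 2 * h + 1 := hp.odd_of_ne_two hp2
      have hpw : ∀ j, ∃ δ : ZMod p, a ^ (2 * j + 1) = ((b : ZMod p) ^ (2 * j)) • a + cst δ := by
        intro j
        induction j with
        | zero => exact ⟨0, by ext i; simp⟩
        | succ j ihj =>
          obtain ⟨δ, hδ⟩ := ihj
          refine ⟨(b : ZMod p) ^ (2 * j) * γ + aug (a ^ 2) * δ, ?_⟩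
          rw [show 2 * (j + 1) + 1 = (2 * j + 1) + 2 by ring, pow_add, hδ, add_mul, smul_mul_assoc,
            ← pow_succ', ha3, mul_comm (cst δ), mul_cst, cst_add]
          ext i; simp; ring
      obtain ⟨δ, hδ⟩ := hpw h
      rw [← hh] at hδ
      have hval : ∀ y, (a ^ p).coeff y = (b : ZMod p) ^ (2 * h) * a.coeff y + δ := fun y => by
        simp [hδ]
      have hδ1 := hval 1
      rw [frob_none p a (exists_not_image p hpn)] at hδ1
      have hinj : ∀ i j, a.coeff i = a.coeff j → α.coeff i = α.coeff j := by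
        intro i j hij
        rcases h01 i with hi | hi <;> rcases h01 j with hj | hj <;>
          simp [ha, hi, hj] at hij ⊢
      by_cases hb : p ∣ b
      · refine periodic p hp hpn fun x => ?_
        refine Rat'.periodic p (f := fun i => α.coeff i) hrat hpn fun k hk _ => ?_
        have hb0 : (b : ZMod p) ^ (2 * h) = 0 := by
          rw [(ZMod.natCast_eq_zero_iff _ _).mpr hb, zero_pow]
          have := hp.two_le; omega
        have h1 := hval (p • k)
        rw [frob_coprime p hpn a harat hk, hb0, zero_mul, zero_add] at h1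
        rw [hb0, zero_mul, zero_add] at hδ1
        rw [← hδ1] at h1
        exact (hinj _ _ (sub_eq_zero.mp h1)).symm
      · have hb1 : (b : ZMod p) ^ (2 * h) = 1 := by
          rw [show 2 * h = p - 1 by omega]
          exact ZMod.pow_card_sub_one_eq_one fun h0 => hb ((ZMod.natCast_eq_zero_iff _ _).mp h0)
        have h1ord : p ∣ addOrderOf (1 : ZMod n) := by
          rw [← Nat.cast_one, ZMod.addOrderOf_coe _ (NeZero.ne n), Nat.gcd_one_right, Nat.div_one]
          exact hpn
        have hconst : ∀ y, p ∣ addOrderOf y → α.coeff y = α.coeff 1 := by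
          intro y hy
          have h1 := hval y
          have h2 := hval 1
          rw [frob_dvd p hpn a harat hy, hb1, one_mul] at h1
          rw [frob_dvd p hpn a harat h1ord, hb1, one_mul] at h2
          exact hinj _ _ (add_right_cancel (h1.symm.trans h2))
        rcases h01 1 with h1 | h1
        · left
          exact supported_case hp hpn (fun y hy => (hconst y hy).trans h1) heq
            (aug_nonneg h01 hi₁)
        · right
          have hV : Supp p (cst 1 - α) := fun y hy => by simp [hconst y hy, h1]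
          obtain ⟨δ', hV3⟩ : ∃ δ', (cst 1 - α) ^ 3 = ((b : ℤ) ^ 2) • (cst 1 - α) + cst δ' := by
            refine ⟨(n : ℤ) * n - 3 * aug α * n + 3 * aug α * aug α - γ - (b : ℤ) ^ 2, ?_⟩
            have e : (cst 1 - α) ^ 3 = cst 1 * cst 1 * cst 1 - (3 : ℤ) • (α * cst 1 * cst 1)
                + (3 : ℤ) • (α * (α * cst 1)) - α ^ 3 := by
              simp only [zsmul_eq_mul]; push_cast; ring
            rw [e, heq]
            simp only [mul_cst, aug_cst]
            ext i
            simp only [AddMonoidAlgebra.coeff_add, AddMonoidAlgebra.coeff_sub, Finsupp.add_apply,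
              Finsupp.sub_apply, AddMonoidAlgebra.coeff_smul_apply, coeff_cst, smul_eq_mul]
            ring
          have h2 := supported_case hp hpn hV hV3 (by
            refine aug_nonneg (i := 0) (fun j => ?_) (by simp [h0])
            rcases h01 j with hj | hj <;> simp [hj])
          have h3 : aug (cst 1 - α) = (n : ℤ) - aug α := by simp [aug, Finset.sum_sub_distrib]
          omega
    · push Not at hodd
      obtain ⟨p, hp, hpn⟩ := Nat.exists_prime_and_dvd hn1.ne'
      obtain rfl : p = 2 := hodd p hp hpn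
      haveI := Fact.mk hp
      have hK : ∀ k : ZMod n, ¬ 2 ∣ addOrderOf k → k = 0 := by
        intro k hk
        by_contra hk0
        obtain ⟨q, hq, hqd⟩ := Nat.exists_prime_and_dvd
          (show addOrderOf k ≠ 1 from fun h => hk0 (AddMonoid.addOrderOf_eq_one_iff.mp h))
        have := hodd q hq (hqd.trans (by
          have := addOrderOf_dvd_natCard k
          rwa [Nat.card_zmod] at this))
        exact hk (this ▸ hqd)
      set z := zel 2 n with hz
      rcases h01 z with hz0 | hz1
      · refine periodic 2 hp hpn fun x => Rat'.periodic 2 (f := fun i => α.coeff i) hrat hpn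
          fun k hk _ => ?_
        rw [hK k hk, zero_add, h0, hz0]
      · let W : AddMonoidAlgebra ℤ (ZMod n) := α - AddMonoidAlgebra.single z 1
        have hzz : z + z = 0 := by rw [← two_nsmul]; exact nsmul_zel 2 hpn
        have hzne : z ≠ 0 := zel_ne 2 hpn
        have hWc : ∀ i, W.coeff i = if i = z then 0 else α.coeff i := by
          intro i
          by_cases h : i = z
          · subst h; simp [W, hz1]
          · simp [W, h, Ne.symm h]
        have hWrat : Rat' (fun i => W.coeff i) := by
          intro u i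
          have huz : (u : ZMod n) * i = z ↔ i = z := by
            have key : ∀ (v : (ZMod n)ˣ), (v : ZMod n) * z = z := by
              intro v
              obtain ⟨j, hj, hjd⟩ := exists_smul_zel 2 hpn
                (show 2 • ((v : ZMod n) * z) = 0 by rw [← mul_smul_comm, nsmul_zel 2 hpn, mul_zero])
              rcases (show j = 0 ∨ j = 1 by omega) with rfl | rfl
              · rw [zero_nsmul] at hjd
                exact absurd ((Units.mul_right_eq_zero v).mp hjd) hzne
              · rw [one_nsmul] at hjd; exact hjd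
            constructor
            · intro h
              have := congrArg ((↑u⁻¹ : ZMod n) * ·) h
              simp only [Units.inv_mul_cancel_left] at this
              rw [this, key]
            · intro h; rw [h, key]
          simp only [hWc, huz, hrat u i]
        have hWper : ∀ x, W.coeff (x + z) = W.coeff x := fun x =>
          Rat'.periodic 2 (f := fun i => W.coeff i) hWrat hpn fun k hk _ => by
            rw [hK k hk, zero_add, hWc, hWc, if_pos rfl, if_neg (Ne.symm hzne), h0]
        have hWz : W * AddMonoidAlgebra.single z 1 = W := by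
          ext i
          rw [AddMonoidAlgebra.coeff_mul_single_apply, mul_one]
          rw [show i + -z = i + z by rw [neg_eq_of_add_eq_zero_left hzz], hWper]
        set e : AddMonoidAlgebra ℤ (ZMod n) := AddMonoidAlgebra.single z 1 with he
        have hee : e * e = 1 := by
          rw [he, AddMonoidAlgebra.single_mul_single, hzz, one_mul]; rfl
        have hα : α = e + W := by simp [W, he]
        have hexp : α ^ 3 = e + 3 * W + 3 * W ^ 2 + W ^ 3 := by
          rw [hα]
          linear_combination (3 * W + e) * hee + (3 * W) * hWz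
        set P : AddMonoidAlgebra ℤ (ZMod n) :=
          3 * W + 3 * W ^ 2 + W ^ 3 - ((b : ℤ) ^ 2) • W - cst γ with hP
        have hmain : (1 - ((b : ℤ) ^ 2)) • e + P = 0 := by
          have h := heq
          rw [hexp, hα, smul_add] at h
          rw [sub_smul, one_smul, hP]
          linear_combination h
        have hPe : P * e = P := by
          rw [hP]
          have h4 : cst γ * e = cst γ := by ext i; simp [he]
          simp only [sub_mul, add_mul, smul_mul_assoc, h4, mul_assoc, hWz, pow_succ, pow_zero,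
            one_mul]
        have hb1 : b = 1 := by
          have h1 := congrArg (fun t => t * e) hmain
          simp only [add_mul, smul_mul_assoc, hee, hPe, zero_mul] at h1
          have h2 : (1 - ((b : ℤ) ^ 2)) • (e - 1) = 0 := by
            rw [smul_sub]; linear_combination hmain - h1
          have h3 := congrArg (fun t : AddMonoidAlgebra ℤ (ZMod n) => t.coeff z) h2
          simp only [he, AddMonoidAlgebra.coeff_smul_apply, AddMonoidAlgebra.coeff_sub,
            Finsupp.sub_apply, AddMonoidAlgebra.coeff_zero, Finsupp.coe_zero, Pi.zero_apply] at h3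
          simp [AddMonoidAlgebra.one_def, Finsupp.single_apply, Ne.symm hzne] at h3
          have : (b : ℤ) ^ 2 = 1 := by linarith
          have h4 : b ^ 2 = 1 := by exact_mod_cast this
          exact (Nat.pow_eq_one.mp h4).resolve_right two_ne_zero
        subst hb1
        obtain ⟨n', hn'⟩ := hpn
        have hpn : 2 ∣ n := ⟨n', hn'⟩
        have h3' : 3 * W + 3 * W ^ 2 + W ^ 3 = W + cst γ := by
          have := hmain
          simp [hP] at this
          linear_combination this
        have hW2 : ∀ x, x ≠ 0 → x ≠ z → W.coeff x = W.coeff 1 :=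
          pass_two hn' hodd W γ h3' hWrat hWper (by rw [hWc, if_neg (Ne.symm hzne), h0])
            (fun i => by rw [hWc]; split
                         · exact Or.inl rfl
                         · exact h01 i)
        rcases Nat.lt_or_ge 2 n with hlarge | hsmall
        · have hone : (1 : ZMod n) ≠ z := by
            intro h
            have h1 : addOrderOf (1 : ZMod n) = n := by
              rw [← Nat.cast_one, ZMod.addOrderOf_coe _ (NeZero.ne n), Nat.gcd_one_right,
                Nat.div_one]
            rw [h, hz, addOrderOf_zel 2 hpn] at h1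
            omega
          have hsum : aug α = 1 + ((n : ℤ) - 2) * α.coeff 1 := by
            have h1 : ∀ x, α.coeff x =
                α.coeff 1 + (if x = 0 then -α.coeff 1 else 0) +
                  (if x = z then 1 - α.coeff 1 else 0) := by
              intro x
              by_cases hx0 : x = 0
              · subst hx0; simp [h0, Ne.symm hzne]
              by_cases hxz : x = z
              · subst hxz; simp [hz1, hzne]
              have h := hW2 x hx0 hxz
              rw [hWc, hWc, if_neg hxz, if_neg hone] at h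
              simp [hx0, hxz, h]
            rw [aug, Finset.sum_congr rfl fun x _ => h1 x]
            simp [Finset.sum_add_distrib]
            ring
          rcases h01 1 with h | h <;> rw [h] at hsum
          · left; rw [hsum]; simp
          · right; rw [hsum]; push_cast; ring
        · obtain rfl : n = 2 := le_antisymm hsmall hn1
          left
          rw [aug, show (Finset.univ : Finset (ZMod 2)) = {0, 1} from rfl, Finset.sum_pair zero_ne_one]
          have : z = (1 : ZMod 2) := by rw [hz]; rfl
          rw [this] at hz1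
          simp only [Nat.cast_one]
          exact (congrArg₂ (· + ·) h0 hz1).trans (by norm_num)

theorem cube_lemma (α : AddMonoidAlgebra ℤ (ZMod n))
    (h01 : ∀ i, α.coeff i = 0 ∨ α.coeff i = 1) (h0 : α.coeff 0 = 0) (h1 : ∃ i, α.coeff i = 1)
    (hrat : Rat' (fun i => α.coeff i)) (b : ℕ) (γ : ℤ)
    (h : α ^ 3 = ((b : ℤ) ^ 2) • α + cst γ) : aug α = b ∨ aug α = (n : ℤ) - b :=
  cube_lemma_aux n n le_rfl α h01 h0 h1 hrat b γ h

end Cfsg.Agent.Dih3572

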