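import Cfsg.Agent.Lib.Dihedral3572.Rational

/-!
A primitive Schur ring over a dihedral group has rank two.
-/

set_option autoImplicit false
set_option linter.unusedSectionVars false
set_option linter.style.haveILetI false

namespace Cfsg.Agent.Dih3572

open DihedralGroup

variable {m : ℕ} [NeZero m] (𝒟 : Dat m)

/-- `p` is an odd prime divisor, or `p = 2` is the only prime divisor -/
def Sel (p m : ℕ) : Prop := p ∣ m ∧ (p = 2 → ∀ q, q.Prime → q ∣ m → q = 2)

theorem exists_sel (hm : 1 < m) : ∃ p, p.Prime ∧ Sel p m := by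
  by_cases h : ∃ q, q.Prime ∧ q ∣ m ∧ q ≠ 2
  · obtain ⟨q, hq, hqm, hq2⟩ := h
    exact ⟨q, hq, hqm, fun h => absurd h hq2⟩
  · obtain ⟨q, hq, hqm⟩ := Nat.exists_prime_and_dvd hm.ne'
    refine ⟨q, hq, hqm, fun _ r hr hrm => ?_⟩
    by_contra hr2
    exact h ⟨r, hr, hrm, hr2⟩

theorem sel_two (p : ℕ) [hp : Fact p.Prime] (hs : Sel p m) (h2 : p = 2) {k : ZMod m}
    (hk : ¬ p ∣ addOrderOf k) : k = 0 := by
  by_contra hk0
  obtain ⟨q, hq, hqd⟩ := Nat.exists_prime_and_dvd
    (show addOrderOf k ≠ 1 from fun h => hk0 (AddMonoid.addOrderOf_eq_one_iff.mp h))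
  have hd : addOrderOf k ∣ m := by
    have := addOrderOf_dvd_natCard k
    rwa [Nat.card_zmod] at this
  exact hk ((h2.trans (hs.2 h2 q hq (hqd.trans hd)).symm) ▸ hqd)

theorem order_shift (p : ℕ) [hp : Fact p.Prime] (hpm : p ∣ m) {k : ZMod m}
    (hk : ¬ p ∣ addOrderOf k) : addOrderOf (k + zel p m) = p * addOrderOf k := by
  have h1 := order_add_smul p hpm hk (j := 1) (by simpa using hp.out.ne_one)
  rwa [one_nsmul] at h1

/-- A rational stable set has the same membership at `k` and `k + z`. -/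
theorem Dat.per (hm : 1 < m) (p : ℕ) [hp : Fact p.Prime] (hs : Sel p m)
    {X : Set (DihedralGroup m)} (hX : 𝒟.Stb X) (hXr : Rat' (fun i => r i ∈ X)) {k : ZMod m}
    (hk : ¬ p ∣ addOrderOf k) (hk0 : k ≠ 0) : r k ∈ X ↔ r (k + zel p m) ∈ X := by
  classical
  by_cases h2 : p = 2
  · exact absurd (sel_two p hs h2 hk) hk0
  let f : DihedralGroup m → ZMod p := fun d => if d ∈ X then 1 else 0
  have hf : 𝒟.Inv f := fun a b hab => by simp only [f, hX a b hab]
  let x : 𝒟.alg (ZMod p) := ⟨ofFun f, 𝒟.mk_mem hf⟩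
  have hx : 𝒟.RS x := fun u i => by
    have := hXr u i
    simp only at this
    simp only [x, coeff_mk, f, this]
  let α := cp (x : MonoidAlgebra (ZMod p) (DihedralGroup m))
  have hαr : Rat' (fun i => α.coeff i) := fun u i => by simpa [α] using hx u i
  set h := x ^ p with hh
  have hcp : cp (h : MonoidAlgebra (ZMod p) (DihedralGroup m)) = α ^ p := 𝒟.cp_pow_prime p h2 x
  have hhr : 𝒟.RS h := hx.powZMod 𝒟 hm p
  let Y : Set (DihedralGroup m) :=
    ((fun d => (h : MonoidAlgebra (ZMod p) (DihedralGroup m)).coeff d) ⁻¹' {0}ᶜ) ∩ {d | d ≠ 1}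
  have hY : 𝒟.Stb Y := (Dat.Inv.preimage 𝒟 h.2 _).inter 𝒟 𝒟.stb_ne_one
  have hYe : Y = ∅ := by
    refine 𝒟.exclusion hm p h2 hs.1 hY (fun u i => ?_) (fun h1 => h1.2 rfl) fun i hi hd => hi.1 ?_
    · have := hhr u i
      simp only at this
      simp only [Y, Set.mem_inter_iff, Set.mem_preimage, this, Set.mem_ofPred_eq, ne_eq,
        eq_iff_iff]
      refine and_congr_right fun _ => not_congr ?_
      rw [eq_comm, one_eq_r_iff, eq_comm (b := (1 : DihedralGroup m)), one_eq_r_iff,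
        Units.mul_right_eq_zero]
    · show (h : MonoidAlgebra (ZMod p) (DihedralGroup m)).coeff (r i) = 0
      rw [← coeff_cp, hcp]
      exact frob_dvd p hs.1 α hαr hd
  have hpk : p • k ≠ 0 := fun h0 => by
    have := order_of_not_dvd_image p hk
    rw [h0, addOrderOf_zero] at this
    exact hk0 (AddMonoid.addOrderOf_eq_one_iff.mp this.symm)
  have hz : (h : MonoidAlgebra (ZMod p) (DihedralGroup m)).coeff (r (p • k)) = 0 := by
    by_contra hne
    have hmem : r (p • k) ∈ Y := ⟨hne, fun h1 => hpk ((one_eq_r_iff _).mp h1.symm)⟩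
    rw [hYe] at hmem
    exact hmem
  rw [← coeff_cp, hcp, frob_coprime p hs.1 α hαr hk, sub_eq_zero] at hz
  simp only [α, coeff_cp, x, coeff_mk, f] at hz
  by_cases ha : r k ∈ X <;> by_cases hb : r (k + zel p m) ∈ X <;> simp_all

theorem Dat.per_fun (hm : 1 < m) (p : ℕ) [hp : Fact p.Prime] (hs : Sel p m) {x : 𝒟.alg ℤ}
    (hx : 𝒟.RS x) {k : ZMod m} (hk : ¬ p ∣ addOrderOf k) (hk0 : k ≠ 0) :
    (x : MonoidAlgebra ℤ (DihedralGroup m)).coeff (r (k + zel p m)) =
      (x : MonoidAlgebra ℤ (DihedralGroup m)).coeff (r k) := by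
  have h := 𝒟.per hm p hs (Dat.Inv.preimage 𝒟 x.2
    {(x : MonoidAlgebra ℤ (DihedralGroup m)).coeff (r k)}) (fun u i => by
      have := hx u i
      simp only at this
      simp [Set.mem_preimage, this]) hk hk0
  exact h.mp rfl

/-- The small exceptional parameter set does not occur. -/
theorem no_eight : ∀ bb : Fin 8 → Bool,
    ¬ ((∑ h : Fin 8, if bb h && bb (h + 0) then 1 else 0) = 4 ∧
      (∑ h : Fin 8, if bb h && bb (h + 1) then 1 else 0) = 2 ∧
      (∑ h : Fin 8, if bb h && bb (h + 2) then 1 else 0) = 2 ∧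
      (∑ h : Fin 8, if bb h && bb (h + 3) then 1 else 0) = 2 ∧
      (∑ h : Fin 8, if bb h && bb (h + 4) then (1 : ℕ) else 0) = 0) := by
  decide +kernel

theorem values (f g : ZMod 8 → ℤ) (t : Fin 8 → ℤ) {μ : ℤ}
    (ht : ∀ i : ZMod 8, ∑ h, f h * f (-h + i) = t i)
    (h : ∀ i : ZMod 8, (∑ h, f h * f (-h + i)) + g i = (if i = 0 then 4 else 0) + μ)
    (hμ : t 0 = μ ∧ t 1 + 2 = μ ∧ t 2 + 2 = μ ∧ t 3 + 2 = μ ∧ t 4 = μ) :
    g 0 = 4 ∧ g 1 = 2 ∧ g 2 = 2 ∧ g 3 = 2 ∧ g 4 = 0 := by
  obtain ⟨a, b, c, d, e⟩ := hμ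
  have h0 := h 0; have h1 := h 1; have h2 := h 2; have h3 := h 3; have h4 := h 4
  rw [ht] at h0 h1 h2 h3 h4
  rw [if_pos rfl] at h0
  rw [if_neg (by decide)] at h1 h2 h3 h4
  omega

theorem eight_case (α β : AddMonoidAlgebra ℤ (ZMod 8)) (hα01 : ∀ i, α.coeff i = 0 ∨ α.coeff i = 1)
    (hα0 : α.coeff 0 = 0) (hαr : Rat' (fun i => α.coeff i))
    (hper : ∀ i, α.coeff (i + 4) = α.coeff i) (hβ : ∀ i, β.coeff i = 0 ∨ β.coeff i = 1)
    (μ : ℤ) (hA : (aug α = 2 ∧ μ = 2) ∨ (aug α = 6 ∧ μ = 6))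
    (heq : α * α + st β * β = (4 : ℤ) • 1 + cst μ) : False := by
  have e3 := hαr (ZMod.unitOfCoprime 3 (by norm_num)) 1
  simp only [ZMod.coe_unitOfCoprime, mul_one, Nat.cast_ofNat] at e3
  have hv : α.coeff 0 = 0 ∧ α.coeff 4 = 0 ∧ α.coeff 5 = α.coeff 1 ∧ α.coeff 3 = α.coeff 1 ∧
      α.coeff 7 = α.coeff 1 ∧ α.coeff 6 = α.coeff 2 := by
    refine ⟨hα0, ?_, ?_, e3, ?_, ?_⟩
    · have := hper 0; rw [zero_add] at this; rw [this, hα0]
    · exact hper 1
    · rw [show (7 : ZMod 8) = 3 + 4 by rfl, hper 3, e3]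
    · exact hper 2
  obtain ⟨v0, v4, v5, v3, v7, v6⟩ := hv
  have hsum : ∀ F : ZMod 8 → ℤ, ∑ h, F h = F 0 + F 1 + F 2 + F 3 + F 4 + F 5 + F 6 + F 7 :=
    fun F => Fin.sum_univ_eight F
  have hβb : ∀ i, β.coeff i = if (β.coeff i = 1 : Bool) then 1 else 0 := fun i => by
    rcases hβ i with h | h <;> simp [h]
  have hM : ∀ i : ZMod 8, (st β * β).coeff i =
      ((∑ h : ZMod 8, if (decide (β.coeff h = 1) && decide (β.coeff (h + i) = 1)) then (1 : ℕ) else 0 :
        ℕ) : ℤ) := by
    intro i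
    rw [coeff_mul_add, Nat.cast_sum]
    refine Fintype.sum_equiv (Equiv.neg _) _ _ fun h => ?_
    rw [coeff_st]
    simp only [Equiv.neg_apply]
    rcases hβ (-h) with h1 | h1 <;> rcases hβ (-h + i) with h2 | h2 <;> simp [h1, h2]
  have hc : ∀ i : ZMod 8, (α * α).coeff i + (st β * β).coeff i =
      (if i = 0 then 4 else 0) + μ := by
    intro i
    have h := congrArg (fun t : AddMonoidAlgebra ℤ (ZMod 8) => t.coeff i) heq
    simp only [AddMonoidAlgebra.coeff_add, Finsupp.add_apply, AddMonoidAlgebra.coeff_smul_apply,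
      coeff_cst, smul_eq_mul] at h
    rw [h]
    simp [AddMonoidAlgebra.one_def, Finsupp.single_apply, eq_comm (a := (0 : ZMod 8))]
  have hα2 : ∀ i : ZMod 8, (α * α).coeff i = ∑ h, α.coeff h * α.coeff (-h + i) := fun i =>
    coeff_mul_add α α i
  -- the coefficients of `α`
  have hf : ∀ h : ZMod 8, α.coeff h =
      (![0, α.coeff 1, α.coeff 2, α.coeff 1, 0, α.coeff 1, α.coeff 2, α.coeff 1] : Fin 8 → ℤ) h := by
    intro h
    revert h
    show ∀ h : Fin 8, α.coeff h = _
    intro h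
    fin_cases h
    · exact v0
    · rfl
    · rfl
    · exact v3
    · exact v4
    · exact v5
    · exact v6
    · exact v7
  rw [aug, Finset.sum_congr rfl (fun h _ => hf h)] at hA
  have c' : ∀ i, (∑ h : ZMod 8,
      (![0, α.coeff 1, α.coeff 2, α.coeff 1, 0, α.coeff 1, α.coeff 2, α.coeff 1] : Fin 8 → ℤ) h *
      (![0, α.coeff 1, α.coeff 2, α.coeff 1, 0, α.coeff 1, α.coeff 2, α.coeff 1] : Fin 8 → ℤ)
        (-h + i : ZMod 8)) + (st β * β).coeff i = (if i = 0 then 4 else 0) + μ := fun i => by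
    rw [← hc i, hα2]
    congr 1
    exact Finset.sum_congr rfl fun h _ => by rw [hf h, hf (-h + i)]
  have hgoal : (st β * β).coeff 0 = 4 ∧ (st β * β).coeff 1 = 2 ∧ (st β * β).coeff 2 = 2 ∧
      (st β * β).coeff 3 = 2 ∧ (st β * β).coeff 4 = 0 := by
    rcases hα01 1 with ha | ha <;> rcases hα01 2 with he | he <;> simp only [ha, he] at hA c'
    · rw [show (∑ h : ZMod 8, (![0, 0, 0, 0, 0, 0, 0, 0] : Fin 8 → ℤ) h) = 0 by rfl] at hA
      omega
    · rw [show (∑ h : ZMod 8, (![0, 0, 1, 0, 0, 0, 1, 0] : Fin 8 → ℤ) h) = 2 by rfl] at hA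
      obtain rfl : μ = 2 := by omega
      exact values (![0, 0, 1, 0, 0, 0, 1, 0] : Fin 8 → ℤ) _ ![2, 0, 0, 0, 2, 0, 0, 0]
        (μ := 2) (fun (i : Fin 8) => by fin_cases i <;> rfl) c' (by decide)
    · rw [show (∑ h : ZMod 8, (![0, 1, 0, 1, 0, 1, 0, 1] : Fin 8 → ℤ) h) = 4 by rfl] at hA
      omega
    · rw [show (∑ h : ZMod 8, (![0, 1, 1, 1, 0, 1, 1, 1] : Fin 8 → ℤ) h) = 6 by rfl] at hA
      obtain rfl : μ = 6 := by omega
      exact values (![0, 1, 1, 1, 0, 1, 1, 1] : Fin 8 → ℤ) _ ![6, 4, 4, 4, 6, 4, 4, 4]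
        (μ := 6) (fun (i : Fin 8) => by fin_cases i <;> rfl) c' (by decide)
  simp only [hM] at hgoal
  exact no_eight (fun h => decide (β.coeff h = 1)) (by exact_mod_cast hgoal)

/-- numerical part -/
theorem arith (m A B b μ : ℤ) (hb : 1 ≤ b) (hA1 : 1 ≤ A) (hB : 0 ≤ B) (hμ : 0 ≤ μ)
    (hd : A - B = b ∨ A - B = -b) (hA : A = b ∨ A = m - b) (hk : A + B = b ^ 2 + μ)
    (hk2 : (A + B) ^ 2 = b ^ 2 + 2 * m * μ) (hm : 2 ≤ m)
    (h : 3 ≤ b ∨ (2 ∣ m ∧ 2 ∣ A)) : m = 8 ∧ B = 4 ∧ ((A = 2 ∧ μ = 2) ∨ (A = 6 ∧ μ = 6)) ∧ b = 2 := by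
  rcases hA with hA | hA <;> rcases hd with hd | hd
  · have hB0 : B = 0 := by omega
    subst hB0
    have hb2 : b ^ 2 ≤ b := by linarith
    have hb1 : b = 1 := by nlinarith
    rcases h with h | h <;> omega
  · have hB2 : B = 2 * b := by omega
    subst hB2
    subst hA
    have he : μ = 3 * A - A ^ 2 := by linarith
    subst he
    have h4 : A * (4 * A - m * (3 - A)) = 0 := by nlinarith
    have h5 : 4 * A = m * (3 - A) := by
      rcases mul_eq_zero.mp h4 with h | h
      · omega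
      · linarith
    have h3 : A < 3 := by nlinarith
    rcases h with h | ⟨-, h2⟩
    · omega
    · obtain rfl : A = 2 := by omega
      norm_num at h5 ⊢
      omega
  · have hB2 : B = m - 2 * b := by omega
    subst hB2
    subst hA
    have he : μ = 2 * m - 3 * b - b ^ 2 := by linarith
    subst he
    have h4 : b * (4 * b - m * (3 - b)) = 0 := by nlinarith
    have h5 : 4 * b = m * (3 - b) := by
      rcases mul_eq_zero.mp h4 with h | h
      · omega
      · linarith
    have h3 : b < 3 := by nlinarith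
    rcases h with h | ⟨hm2, h2⟩
    · omega
    · obtain rfl : b = 2 := by omega
      norm_num at h5 ⊢
      omega
  · have hB2 : B = m := by omega
    subst hB2
    subst hA
    have he : μ = 2 * B - b - b ^ 2 := by linarith
    subst he
    have hb1 : b = 1 := by
      have h4 : B * (b * (b - 1)) = 0 := by nlinarith
      rcases mul_eq_zero.mp h4 with h | h
      · omega
      · rcases mul_eq_zero.mp h with h | h <;> omega
    rcases h with h | ⟨hm2, h2⟩ <;> omega

/-- No proper rational stable set avoids the element of order `p`. -/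
theorem Dat.no_set (hm : 1 < m) (p : ℕ) [hp : Fact p.Prime] (hs : Sel p m)
    {X : Set (DihedralGroup m)} (hX : 𝒟.Stb X) (hXr : Rat' (fun i => r i ∈ X))
    (hX1 : (1 : DihedralGroup m) ∉ X) (hXz : r (zel p m) ∉ X) {x₀ : DihedralGroup m}
    (hx₀ : x₀ ∈ X) : False := by
  classical
  have hz0 : zel p m ≠ 0 := zel_ne p hs.1
  have hzord : p ∣ addOrderOf (zel p m) := by rw [addOrderOf_zel p hs.1]
  have hX0 : r (0 : ZMod m) ∉ X := by rw [← one_def]; exact hX1
  let f : DihedralGroup m → ℤ := fun d => if d ∈ X then 1 else 0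
  have hf : 𝒟.Inv f := fun a b hab => by simp only [f, hX a b hab]
  let y : 𝒟.alg ℤ := ⟨ofFun f, 𝒟.mk_mem hf⟩
  have hy : 𝒟.RS y := fun u i => by
    have := hXr u i
    simp only at this
    simp only [y, coeff_mk, f, this]
  set α := cp (y : MonoidAlgebra ℤ (DihedralGroup m)) with hα
  set β := bp (y : MonoidAlgebra ℤ (DihedralGroup m)) with hβ
  have hf01 : ∀ d, f d = 0 ∨ f d = 1 := fun d => by simp only [f]; split <;> simp
  have hαc : ∀ i, α.coeff i = f (r i) := fun i => by simp [α, y]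
  have hβc : ∀ i, β.coeff i = f (sr i) := fun i => by simp [β, y]
  have hα01 : ∀ i, α.coeff i = 0 ∨ α.coeff i = 1 := fun i => by rw [hαc]; exact hf01 _
  have hα0 : α.coeff 0 = 0 := by rw [hαc]; exact if_neg hX0
  have hαr : Rat' (fun i => α.coeff i) := fun u i => by
    simp only [hαc, f]
    have := hXr u i
    simp only at this
    rw [if_congr (iff_of_eq this) rfl rfl]
  have hper : ∀ i, α.coeff (i + zel p m) = α.coeff i := fun i =>
    Rat'.periodic p (f := fun i => α.coeff i) hαr hs.1 fun k hk _ => by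
      by_cases hk0 : k = 0
      · subst hk0
        rw [zero_add, hα0, hαc]
        exact if_neg hXz
      · simp only [hαc, f]
        rw [if_congr (𝒟.per hm p hs hX hXr hk hk0).symm rfl rfl]
  set y2 := y * y with hy2
  have hy2r : 𝒟.RS y2 := hy.mulInt 𝒟 hm hy
  set F : DihedralGroup m → ℤ := fun d => (y2 : MonoidAlgebra ℤ (DihedralGroup m)).coeff d with hF
  have hFsum : ∀ d, F d = ∑ h, f h * f (h⁻¹ * d) := fun d => by
    simp only [F, y2, Subring.coe_mul, coeff_mul_grp, y, coeff_mk]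
  set c : ℤ := F 1 - F (r (zel p m)) with hc
  set μ : ℤ := F (r (zel p m)) with hμ
  have hμ0 : 0 ≤ μ := by
    rw [hμ, hFsum]
    refine Finset.sum_nonneg fun h _ => ?_
    rcases hf01 h with h1 | h1 <;> rcases hf01 (h⁻¹ * r (zel p m)) with h2 | h2 <;> simp [h1, h2]
  have hbp2 : bp (y2 : MonoidAlgebra ℤ (DihedralGroup m)) = α * β + α * β := by
    rw [hy2, Subring.coe_mul, bp_mul, 𝒟.st_cp, ← hα, ← hβ, mul_comm β α]
  have hcp2 : cp (y2 : MonoidAlgebra ℤ (DihedralGroup m)) = α * α + st β * β := by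
    rw [hy2, Subring.coe_mul, cp_mul]
  -- the element `y² - c` is periodic
  let G : DihedralGroup m → ℤ := fun d => F d - (if d = 1 then c else 0)
  have hG : 𝒟.Inv G := fun a b hab => by
    have h : a = 1 ↔ b = 1 := ⟨fun h => 𝒟.one (h ▸ hab), fun h => 𝒟.one (h ▸ 𝒟.symm hab)⟩
    have h2 : F a = F b := y2.2 a b hab
    simp only [G, h2, if_congr h rfl rfl]
  have hGz : ∀ w, G (r (zel p m) * w) = G w := by
    intro w
    cases w with
    | r i =>
      rw [r_mul_r, add_comm (zel p m) i]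
      refine Rat'.periodic p (f := fun i => G (r i)) (fun u i => ?_) hs.1 fun k hk _ => ?_
      · have h := hy2r u i
        simp only at h
        simp only [G, F, h, eq_comm (b := (1 : DihedralGroup m)), one_eq_r_iff,
          Units.mul_right_eq_zero]
      · have hkz : k + zel p m ≠ 0 := fun h => by
          have := order_shift p hs.1 hk
          rw [h, addOrderOf_zero] at this
          exact hp.out.ne_one (Nat.eq_one_of_mul_eq_one_right this.symm)
        simp only [G, eq_comm (b := (1 : DihedralGroup m)), one_eq_r_iff, if_neg hkz, sub_zero]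
        by_cases hk0 : k = 0
        · subst hk0
          rw [zero_add, if_pos rfl, hc, ← one_def]
          ring
        · rw [if_neg hk0, sub_zero]
          exact 𝒟.per_fun hm p hs hy2r hk hk0
    | sr j =>
      rw [r_mul_sr]
      simp only [G, eq_comm (b := (1 : DihedralGroup m)), one_ne_sr, if_false, sub_zero]
      have e : ∀ i, (y2 : MonoidAlgebra ℤ (DihedralGroup m)).coeff (sr i) =
          (α * β).coeff i + (α * β).coeff i := fun i => by
        rw [← coeff_bp, hbp2]; simp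
      simp only [F, e]
      have e2 : (α * β).coeff (j - zel p m) = (α * β).coeff j := by
        rw [coeff_mul_add, coeff_mul_add]
        refine Fintype.sum_equiv (Equiv.addRight (zel p m)) _ _ fun h => ?_
        simp only [Equiv.coe_addRight]
        rw [hper h]
        congr 2
        ring
      rw [e2]
  have hzne : r (zel p m) ≠ (1 : DihedralGroup m) := fun h =>
    hz0 ((one_eq_r_iff _).mp h.symm)
  have hGμ : ∀ d, G d = μ := fun d => by
    rw [𝒟.periodic_const hG hzne hGz d (r (zel p m))]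
    simp only [G, if_neg hzne, sub_zero, hμ]
  have hFv : ∀ d, F d = (if d = 1 then c else 0) + μ := fun d => by
    have := hGμ d
    simp only [G] at this
    linarith
  have hcpeq : α * α + st β * β = c • 1 + cst μ := by
    rw [← hcp2]
    ext i
    rw [coeff_cp, AddMonoidAlgebra.coeff_add, Finsupp.add_apply, AddMonoidAlgebra.coeff_smul_apply,
      coeff_cst]
    show F (r i) = _
    rw [hFv]
    simp only [eq_comm (b := (1 : DihedralGroup m)), one_eq_r_iff]
    rw [AddMonoidAlgebra.one_def, AddMonoidAlgebra.coeff_single, Finsupp.single_apply]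
    by_cases h : i = 0
    · simp [h]
    · simp [h, Ne.symm h]
  set A := aug α with hA
  set B := aug β with hB
  have hsum : A + B = ∑ d, f d := by
    rw [sum_dih]
    simp [A, B, aug, hαc, hβc]
  have hF1 : F 1 = A + B := by
    rw [hFsum, hsum]
    refine Finset.sum_congr rfl fun h _ => ?_
    rw [mul_one, 𝒟.inv_fun hf]
    rcases hf01 h with h1 | h1 <;> simp [h1]
  have hk : A + B = c + μ := by rw [← hF1, hc, hμ]; ring
  -- `c` is not zero
  have hc0 : c ≠ 0 := by
    intro h0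
    have heq : ∑ h, f h * f (h⁻¹ * r (zel p m)) = ∑ h, f h := by
      rw [← hFsum, ← hsum]; linarith [hk]
    have hpt : ∀ h, f h * f (h⁻¹ * r (zel p m)) = f h := by
      intro h
      refine (Finset.sum_eq_sum_iff_of_le (fun h _ => ?_)).mp heq h (Finset.mem_univ h)
      rcases hf01 h with h1 | h1 <;> rcases hf01 (h⁻¹ * r (zel p m)) with h2 | h2 <;> simp [h1, h2]
    have hmap : ∀ h ∈ X, (r (zel p m))⁻¹ * h ∈ X := by
      intro h hh
      have h1 := hpt h
      simp only [f, if_pos hh, one_mul] at h1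
      have h2 : h⁻¹ * r (zel p m) ∈ X := by
        by_contra hn
        rw [if_neg hn] at h1
        exact zero_ne_one h1
      have h3 := 𝒟.inv_fun hf (h⁻¹ * r (zel p m))
      rw [mul_inv_rev, inv_inv] at h3
      simp only [f, if_pos h2] at h3
      by_contra hn
      rw [if_neg hn] at h3
      exact zero_ne_one h3
    have himg : ∀ w, w ∈ X ↔ (r (zel p m))⁻¹ * w ∈ X := by
      intro w
      refine ⟨hmap w, fun hw => ?_⟩
      have hXX : ((r (zel p m))⁻¹ * ·) '' X = X :=
        Set.eq_of_subset_of_ncard_le (by rintro _ ⟨h, hh, rfl⟩; exact hmap h hh)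
          (by rw [Set.ncard_image_of_injective _ (mul_right_injective _)]) (Set.toFinite _)
      rw [← hXX] at hw
      obtain ⟨v, hv, hvw⟩ := hw
      exact mul_left_cancel hvw ▸ hv
    rcases 𝒟.rad X hX _ (inv_ne_one.mpr hzne) himg with h | h
    · exact (Set.notMem_empty x₀) (h ▸ hx₀)
    · exact hX1 (h ▸ Set.mem_univ _)
  have hbeq : α * β + α * β = cst μ := by
    rw [← hbp2]
    ext i
    rw [coeff_bp, coeff_cst]
    show F (sr i) = μ
    rw [hFv, if_neg (fun h => one_ne_sr i h.symm), zero_add]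
  have haug : ∀ a b : AddMonoidAlgebra ℤ (ZMod m), aug (a + b) = aug a + aug b := fun a b => by
    simp [aug, Finset.sum_add_distrib]
  have haugc : aug (c • (1 : AddMonoidAlgebra ℤ (ZMod m))) = c := by
    simp only [aug, AddMonoidAlgebra.coeff_smul_apply, smul_eq_mul, ← Finset.mul_sum]
    simp [AddMonoidAlgebra.one_def, Finsupp.single_apply]
  have h1 := congrArg aug hcpeq
  have h2 := congrArg aug hbeq
  simp only [haug, aug_mul, aug_st, aug_cst, haugc, ← hA, ← hB] at h1 h2
  have hcb : c = (((A - B).natAbs : ℕ) : ℤ) ^ 2 := by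
    rw [Int.natAbs_sq]; linear_combination h2 - h1
  set b := (A - B).natAbs with hb
  have hb1 : 1 ≤ b := by
    by_contra h
    exact hc0 (by rw [hcb, show b = 0 by omega]; simp)
  -- the cube of the rotation part
  set g := (α * β).coeff 0 with hg
  have hμg : μ = g + g := by
    have := congrArg (fun t : AddMonoidAlgebra ℤ (ZMod m) => t.coeff 0) hbeq
    simp at this
    rw [hg]; linarith
  have hαβ : α * β = cst g := by
    ext i
    have := congrArg (fun t : AddMonoidAlgebra ℤ (ZMod m) => t.coeff i) hbeq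
    simp at this
    rw [coeff_cst]
    linarith
  have hcube : α ^ 3 = ((b : ℤ) ^ 2) • α + cst (A * μ - B * g) := by
    rw [← hcb]
    have e : α ^ 3 = α * (α * α + st β * β) - st β * (α * β) := by ring
    rw [e, hcpeq, hαβ, mul_add, mul_smul_comm, mul_one, mul_cst, mul_cst, aug_st, ← hA, ← hB]
    ext i
    simp only [AddMonoidAlgebra.coeff_add, AddMonoidAlgebra.coeff_sub, Finsupp.add_apply,
      Finsupp.sub_apply, coeff_cst]
    ring
  obtain ⟨i₁, hi₁, -⟩ := 𝒟.meet_r hm hX hx₀ (fun h => hX1 (h ▸ hx₀))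
  have hi₁' : α.coeff i₁ = 1 := by rw [hαc]; exact if_pos hi₁
  have hAc := cube_lemma α hα01 hα0 ⟨i₁, hi₁'⟩ hαr b _ hcube
  have hA1 : 1 ≤ A := aug_nonneg hα01 hi₁'
  have hB0 : 0 ≤ B := Finset.sum_nonneg fun i _ => by
    rw [hβc]; rcases hf01 (sr i) with h | h <;> simp [h]
  -- divisibility
  have hdiv : 3 ≤ (b : ℤ) ∨ ((2 : ℤ) ∣ (m : ℤ) ∧ (2 : ℤ) ∣ A) := by
    by_cases hp2 : p = 2
    · right
      refine ⟨by exact_mod_cast hp2 ▸ hs.1, ?_⟩
      obtain ⟨n', hn'⟩ := hs.1
      haveI : NeZero n' := ⟨fun h => NeZero.ne m (by rw [hn', h, mul_zero])⟩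
      obtain ⟨π, φ, sec, -, -, -, hπ, -, haugπ, -⟩ :=
        quotient_data p hn' (⟨p, by rw [hn', mul_comm]⟩ : n' ∣ m)
      rw [hA, ← haugπ, aug, Finset.sum_congr rfl fun y _ => hπ α hper y, ← Finset.mul_sum, hp2]
      exact dvd_mul_right _ _
    · left
      let yb := 𝒟.red (Int.castRingHom (ZMod p)) y
      have hyb : yb ^ p = 0 := by
        refine 𝒟.eq_of_cp hm ?_
        rw [𝒟.cp_pow_prime p hp2 yb]
        have ha : cp (yb : MonoidAlgebra (ZMod p) (DihedralGroup m)) =
            AddMonoidAlgebra.mapRingHom (ZMod m) (Int.castRingHom (ZMod p)) α := by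
          ext i; simp [yb, α]
        rw [ha]
        set a := AddMonoidAlgebra.mapRingHom (ZMod m) (Int.castRingHom (ZMod p)) α with haa
        have har : Rat' (fun i => a.coeff i) := fun u i => by
          simp only [haa, AddMonoidAlgebra.coeff_mapRingHom]
          exact congrArg (Int.castRingHom (ZMod p)) (hαr u i)
        ext i
        simp only [Subring.coe_zero, coeff_cp, MonoidAlgebra.coeff_zero, Finsupp.coe_zero,
          Pi.zero_apply]
        by_cases hi : p ∣ addOrderOf i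
        · exact frob_dvd p hs.1 a har hi
        · obtain ⟨k, rfl, hk⟩ := exists_pmul_root p hi
          rw [frob_coprime p hs.1 a har hk]
          simp [haa, hper k]
      have h3 := congrArg (𝒟.sgn (ZMod p)) hyb
      rw [map_pow, map_zero, ZMod.pow_card] at h3
      have h4 : 𝒟.sgn (ZMod p) yb = ((A - B : ℤ) : ZMod p) := by
        simp [Dat.sgn, aug, yb, A, B, α, β]
      rw [h4, ZMod.intCast_zmod_eq_zero_iff_dvd] at h3
      have h5 : p ∣ b := Int.natCast_dvd.mp h3
      have := Nat.le_of_dvd hb1 h5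
      have := hp.out.two_le
      omega
  have hk2 : (A + B) ^ 2 = (b : ℤ) ^ 2 + 2 * (m : ℤ) * μ := by
    rw [← hcb]; linear_combination h1 + h2
  obtain ⟨hm8, hB4, hAμ, hb2⟩ := arith (m : ℤ) A B b μ (by exact_mod_cast hb1) hA1 hB0 hμ0
    (by rw [hb]; rcases Int.natAbs_eq (A - B) with h | h <;> omega) hAc (by rw [← hcb]; exact hk)
    hk2 (by exact_mod_cast hm) hdiv
  obtain rfl : m = 8 := by exact_mod_cast hm8
  have hp2 : p = 2 :=
    (Nat.prime_dvd_prime_iff_eq hp.out Nat.prime_two).mp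
      (hp.out.dvd_of_dvd_pow (show p ∣ 2 ^ 3 from hs.1))
  subst hp2
  refine eight_case α β hα01 hα0 hαr (fun i => hper i) (fun i => by rw [hβc]; exact hf01 _) μ
    hAμ ?_
  rw [hcpeq, hcb, hb2]
  norm_num

/-- Every nonempty rational stable set off the identity is everything else. -/
theorem Dat.rat_trivial (hm : 1 < m) {X : Set (DihedralGroup m)} (hX : 𝒟.Stb X)
    (hXr : Rat' (fun i => r i ∈ X)) (hX1 : (1 : DihedralGroup m) ∉ X) {x₀ : DihedralGroup m}
    (hx₀ : x₀ ∈ X) {d : DihedralGroup m} (hd : d ≠ 1) : d ∈ X := by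
  obtain ⟨p, hp, hs⟩ := exists_sel (m := m) hm
  haveI := Fact.mk hp
  by_cases hz : r (zel p m) ∈ X
  · by_contra hdX
    refine 𝒟.no_set hm p hs ((hX.compl 𝒟).inter 𝒟 𝒟.stb_ne_one) (fun u i => ?_) (fun h => h.2 rfl)
      (fun h => h.1 hz) (⟨hdX, hd⟩ : d ∈ Xᶜ ∩ {d | d ≠ 1})
    have := hXr u i
    simp only at this
    simp only [Set.mem_inter_iff, Set.mem_compl_iff, this, Set.mem_ofPred_eq, ne_eq,
      eq_comm (b := (1 : DihedralGroup m)), one_eq_r_iff, Units.mul_right_eq_zero]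
  · exact (𝒟.no_set hm p hs hX hXr hX1 hz hx₀).elim

/-- The Schur ring has rank two. -/
theorem Dat.rank_two (hm : 1 < m) {a b : DihedralGroup m} (ha : a ≠ 1) (hb : b ≠ 1) :
    𝒟.O a b := by
  classical
  let X : Set (DihedralGroup m) := {c | 𝒟.O a c}
  have hX : 𝒟.Stb X := fun c d hcd =>
    ⟨fun h => 𝒟.trans h hcd, fun h => 𝒟.trans h (𝒟.symm hcd)⟩
  have hX1 : (1 : DihedralGroup m) ∉ X := fun h => ha (𝒟.one (𝒟.symm h))
  choose Y hY hYr hYc using fun u : (ZMod m)ˣ => 𝒟.mulset hm hX u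
  have hY1 : ∀ u, (1 : DihedralGroup m) ∉ Y u := fun u h => hX1 (by
    rw [one_def] at h ⊢
    exact (hYr u 0).mp (by rwa [mul_zero]))
  have hYi : ∀ u i, r i ∈ Y u ↔ r ((↑u⁻¹ : ZMod m) * i) ∈ X := fun u i => by
    conv_lhs => rw [show i = (u : ZMod m) * ((↑u⁻¹ : ZMod m) * i) by simp]
    exact hYr u _
  let W : Set (DihedralGroup m) := {c | ∃ u, c ∈ Y u}
  have hW : ∀ c, c ≠ 1 → c ∈ W := by
    intro c hc
    obtain ⟨i, hi, -⟩ := 𝒟.meet_r hm hX (𝒟.refl a) ha
    refine 𝒟.rat_trivial hm (fun c d hcd => exists_congr fun u => hY u c d hcd) (fun u j => ?_)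
      (fun ⟨u, h⟩ => hY1 u h) (x₀ := r i) ⟨1, (hYi 1 i).mpr (by simpa using hi)⟩ hc
    refine propext ⟨fun ⟨v, hv⟩ => ⟨u⁻¹ * v, ?_⟩, fun ⟨v, hv⟩ => ⟨u * v, ?_⟩⟩
    · rw [hYi] at hv ⊢
      simpa [mul_assoc, mul_comm, mul_left_comm] using hv
    · rw [hYi] at hv ⊢
      simpa [mul_assoc, mul_comm, mul_left_comm] using hv
  have hatom : ∀ u v, ∀ c, c ∈ Y u → c ∈ Y v → Y u ⊆ Y v := by
    intro u v c hcu hcv
    obtain ⟨Z, hZ, hZr, -⟩ := 𝒟.mulset hm ((hY u).inter 𝒟 (hY v)) u⁻¹
    obtain ⟨i, hi, -⟩ := 𝒟.meet_r hm ((hY u).inter 𝒟 (hY v)) (x := c) ⟨hcu, hcv⟩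
      (fun h => hY1 u (h ▸ hcu))
    have hjX := (hYi u i).mp hi.1
    have hjZ := (hZr i).mpr hi
    have hXZ : ∀ e ∈ X, e ∈ Z := fun e he =>
      (hZ _ e (𝒟.trans (𝒟.symm hjX) he)).mp hjZ
    intro e he
    by_contra hev
    obtain ⟨j, ⟨hj, hjv⟩, -⟩ := 𝒟.meet_r hm ((hY u).inter 𝒟 ((hY v).compl 𝒟)) (x := e) ⟨he, hev⟩
      (fun h => hY1 u (h ▸ he))
    exact hjv ((hZr j).mp (hXZ _ ((hYi u j).mp hj))).2
  let T : (ZMod m)ˣ → Finset (DihedralGroup m) := fun u => (Y u).toFinset
  let 𝒴 := Finset.univ.image T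
  have hdis : ∀ S ∈ 𝒴, ∀ S' ∈ 𝒴, S ≠ S' → Disjoint S S' := by
    intro S hS S' hS' hne
    obtain ⟨u, -, rfl⟩ := Finset.mem_image.mp hS
    obtain ⟨v, -, rfl⟩ := Finset.mem_image.mp hS'
    refine Finset.disjoint_left.mpr fun c hcu hcv => hne ?_
    simp only [T, Set.mem_toFinset] at hcu hcv
    simp only [T, Set.toFinset_inj]
    exact (hatom u v c hcu hcv).antisymm (hatom v u c hcv hcu)
  have hcardX : ∀ S ∈ 𝒴, S.card = X.toFinset.card := by
    intro S hS
    obtain ⟨u, -, rfl⟩ := Finset.mem_image.mp hS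
    simp only [T, ← Set.ncard_eq_toFinset_card']
    exact hYc u
  have hrX : ∀ S ∈ 𝒴, (Finset.univ.filter fun i : ZMod m => r i ∈ S).card =
      (Finset.univ.filter fun i : ZMod m => r i ∈ X).card := by
    intro S hS
    obtain ⟨u, -, rfl⟩ := Finset.mem_image.mp hS
    refine Finset.card_equiv (Units.mulLeft u⁻¹) fun i => ?_
    simp only [Finset.mem_filter, Finset.mem_univ, true_and, T, Set.mem_toFinset]
    exact hYi u i
  have hcover : 𝒴.biUnion id = Finset.univ.erase 1 := by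
    ext c
    simp only [Finset.mem_biUnion, id, Finset.mem_erase, Finset.mem_univ, and_true]
    constructor
    · rintro ⟨S, hS, hc⟩ rfl
      obtain ⟨u, -, rfl⟩ := Finset.mem_image.mp hS
      exact hY1 u (by simpa [T] using hc)
    · intro hc
      obtain ⟨u, hu⟩ := hW c hc
      exact ⟨T u, Finset.mem_image_of_mem T (Finset.mem_univ u), by simpa [T] using hu⟩
  have e1 : 𝒴.card * X.toFinset.card = 2 * m - 1 := by
    have := congrArg Finset.card hcover
    rw [Finset.card_biUnion (t := id) (fun S hS S' hS' h => hdis S hS S' hS' h)] at this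
    simp only [id] at this
    rw [
      Finset.sum_congr rfl (g := fun _ => X.toFinset.card) (fun S hS => hcardX S hS), Finset.sum_const, smul_eq_mul,
            Finset.card_erase_of_mem (Finset.mem_univ _), Finset.card_univ, DihedralGroup.card] at this
    exact this
  have e2 : 𝒴.card * (Finset.univ.filter fun i : ZMod m => r i ∈ X).card = m - 1 := by
    have hu : (𝒴.biUnion fun S => Finset.univ.filter fun i : ZMod m => r i ∈ S) =
        Finset.univ.erase 0 := by
      ext i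
      simp only [Finset.mem_biUnion, Finset.mem_filter, Finset.mem_univ, true_and,
        Finset.mem_erase, and_true]
      have hcv := congrArg (fun s : Finset (DihedralGroup m) => r i ∈ s) hcover
      simp only [Finset.mem_biUnion, id, Finset.mem_erase, Finset.mem_univ, and_true,
        eq_iff_iff] at hcv
      rw [hcv, ne_eq, eq_comm, one_eq_r_iff]
    have := congrArg Finset.card hu
    rw [Finset.card_biUnion (t := fun S => Finset.univ.filter fun i : ZMod m => r i ∈ S) (fun S hS S' hS' h => Finset.disjoint_left.mpr fun i hi hi' =>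
        Finset.disjoint_left.mp (hdis S hS S' hS' h) (Finset.mem_filter.mp hi).2
          (Finset.mem_filter.mp hi').2),
      Finset.sum_congr rfl (fun S hS => hrX S hS), Finset.sum_const, smul_eq_mul,
      Finset.card_erase_of_mem (Finset.mem_univ _), Finset.card_univ, ZMod.card] at this
    exact this
  have hle : (Finset.univ.filter fun i : ZMod m => r i ∈ X).card ≤ X.toFinset.card := by
    refine Finset.card_le_card_of_injOn r (fun i hi => ?_) (fun i _ j _ h => r.inj h)
    simpa using hi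
  have h1 : 𝒴.card = 1 := by
    have d1 : 𝒴.card ∣ 2 * m - 1 := ⟨_, e1.symm⟩
    have d2 : 𝒴.card ∣ m - 1 := ⟨_, e2.symm⟩
    have d3 := Nat.dvd_sub d1 d2
    rw [show 2 * m - 1 - (m - 1) = m by omega] at d3
    have d4 := Nat.dvd_sub d3 d2
    rw [show m - (m - 1) = 1 by omega] at d4
    exact Nat.dvd_one.mp d4
  rw [h1, one_mul] at e1
  have hXeq : X.toFinset = Finset.univ.erase 1 := by
    refine Finset.eq_of_subset_of_card_le (fun c hc => ?_) ?_
    · simp only [Set.mem_toFinset] at hc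
      simp only [Finset.mem_erase, Finset.mem_univ, and_true]
      exact fun h => hX1 (h ▸ hc)
    · rw [Finset.card_erase_of_mem (Finset.mem_univ _), Finset.card_univ, DihedralGroup.card, e1]
  have : b ∈ X.toFinset := by rw [hXeq]; simp [hb]
  simpa [X] using this

end Cfsg.Agent.Dih3572
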