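import Cfsg.Agent.Lib.Dihedral3572.CycLemma

/-!
Rational stable elements, multipliers, and the exclusion of stable sets whose rotation part
avoids the elements of order divisible by a given odd prime.
-/

set_option autoImplicit false
set_option linter.unusedSectionVars false
set_option linter.style.haveILetI false

namespace Cfsg.Agent.Dih3572

open DihedralGroup

variable {m : ℕ} [NeZero m] (𝒟 : Dat m)

@[simp] theorem one_eq_r_iff (i : ZMod m) : (1 : DihedralGroup m) = r i ↔ i = 0 := by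
  rw [one_def, r.injEq, eq_comm]

@[simp] theorem one_ne_sr (i : ZMod m) : (1 : DihedralGroup m) ≠ sr i := fun h => by
  rw [one_def] at h; cases h

/-- rational elements -/
def Dat.RS {S : Type} [CommRing S] (x : 𝒟.alg S) : Prop :=
  Rat' (fun i : ZMod m => (x : MonoidAlgebra S (DihedralGroup m)).coeff (r i))

/-- change of coefficients -/
noncomputable def Dat.red {S S' : Type} [CommRing S] [CommRing S'] (f : S →+* S') :
    𝒟.alg S →+* 𝒟.alg S' :=
  ((MonoidAlgebra.mapRingHom (DihedralGroup m) f).comp (𝒟.alg S).subtype).codRestrict (𝒟.alg S')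
    (fun x a b hab => by
      have := x.2 a b hab
      simp only at this ⊢
      simp [this])

@[simp] theorem Dat.coeff_red {S S' : Type} [CommRing S] [CommRing S'] (f : S →+* S')
    (x : 𝒟.alg S) (d : DihedralGroup m) :
    (𝒟.red f x : MonoidAlgebra S' (DihedralGroup m)).coeff d =
      f ((x : MonoidAlgebra S (DihedralGroup m)).coeff d) := by
  show ((MonoidAlgebra.mapRingHom (DihedralGroup m) f) (x : MonoidAlgebra S (DihedralGroup m))).coeff d = _
  simp

theorem aug_st {S : Type} [CommRing S] (x : AddMonoidAlgebra S (ZMod m)) : aug (st x) = aug x :=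
  Fintype.sum_equiv (Equiv.neg _) _ _ (fun i => by simp)

/-- sum of the coefficients -/
noncomputable def Dat.eps (S : Type) [CommRing S] : 𝒟.alg S →+* S where
  toFun x := aug (cp (x : MonoidAlgebra S (DihedralGroup m))) +
    aug (bp (x : MonoidAlgebra S (DihedralGroup m)))
  map_one' := by
    classical
    simp [aug, MonoidAlgebra.one_def, Finsupp.single_apply]
  map_zero' := by simp [aug]
  map_add' x y := by
    simp only [Subring.coe_add, cp_add, bp_add, aug, AddMonoidAlgebra.coeff_add, Finsupp.add_apply,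
      Finset.sum_add_distrib]
    abel
  map_mul' x y := by
    simp only [Subring.coe_mul, cp_mul, bp_mul, 𝒟.st_cp]
    have h : ∀ a b : AddMonoidAlgebra S (ZMod m), aug (a + b) = aug a + aug b := fun a b => by
      simp [aug, Finset.sum_add_distrib]
    simp only [h, aug_mul, aug_st]
    ring

/-- the alternating sum of the coefficients -/
noncomputable def Dat.sgn (S : Type) [CommRing S] : 𝒟.alg S →+* S where
  toFun x := aug (cp (x : MonoidAlgebra S (DihedralGroup m))) -
    aug (bp (x : MonoidAlgebra S (DihedralGroup m)))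
  map_one' := by
    classical
    simp [aug, MonoidAlgebra.one_def, Finsupp.single_apply]
  map_zero' := by simp [aug]
  map_add' x y := by
    simp only [Subring.coe_add, cp_add, bp_add, aug, AddMonoidAlgebra.coeff_add, Finsupp.add_apply,
      Finset.sum_add_distrib]
    abel
  map_mul' x y := by
    simp only [Subring.coe_mul, cp_mul, bp_mul, 𝒟.st_cp]
    have h : ∀ a b : AddMonoidAlgebra S (ZMod m), aug (a + b) = aug a + aug b := fun a b => by
      simp [aug, Finset.sum_add_distrib]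
    simp only [h, aug_mul, aug_st]
    ring

theorem eps_eq_sum {S : Type} [CommRing S] (x : 𝒟.alg S) :
    𝒟.eps S x = ∑ d, (x : MonoidAlgebra S (DihedralGroup m)).coeff d := by
  rw [sum_dih]
  simp [Dat.eps, aug]

/-- In characteristic `q` the rotation part of a `q`-th power is the `q`-th power of the rotation
part. -/
theorem Dat.cp_pow_prime (q : ℕ) [hq : Fact q.Prime] (hq2 : q ≠ 2) (x : 𝒟.alg (ZMod q)) :
    cp ((x ^ q : 𝒟.alg (ZMod q)) : MonoidAlgebra (ZMod q) (DihedralGroup m)) =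
      cp (x : MonoidAlgebra (ZMod q) (DihedralGroup m)) ^ q := by
  set α := cp (x : MonoidAlgebra (ZMod q) (DihedralGroup m)) with hα
  set β := bp (x : MonoidAlgebra (ZMod q) (DihedralGroup m)) with hβ
  set M := st β * β with hM
  let Z : QuadraticAlgebra (AddMonoidAlgebra (ZMod q) (ZMod m)) M 0 := ⟨α, 1⟩
  have hpow : ∀ j, cp ((x ^ j : 𝒟.alg (ZMod q)) : MonoidAlgebra (ZMod q) (DihedralGroup m)) =
      (Z ^ j).re ∧ bp ((x ^ j : 𝒟.alg (ZMod q)) : MonoidAlgebra (ZMod q) (DihedralGroup m)) =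
      β * (Z ^ j).im := by
    intro j
    induction j with
    | zero =>
      constructor
      · rw [pow_zero, pow_zero, QuadraticAlgebra.re_one]
        ext i; simp [MonoidAlgebra.one_def, AddMonoidAlgebra.one_def, Finsupp.single_apply, eq_comm (a := (0 : ZMod m))]
      · rw [pow_zero, pow_zero, QuadraticAlgebra.im_one, mul_zero]
        ext i; simp [MonoidAlgebra.one_def, Finsupp.single_apply]
    | succ j ih =>
      rw [pow_succ' x, pow_succ' Z, Subring.coe_mul, cp_mul, bp_mul, 𝒟.st_cp, ih.1, ih.2,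
        QuadraticAlgebra.re_mul, QuadraticAlgebra.im_mul]
      refine ⟨?_, ?_⟩
      · show α * _ + st β * (β * _) = α * _ + (st β * β) * 1 * _
        ring
      · show α * (β * _) + β * _ = β * (α * _ + 1 * _ + 0 * 1 * _)
        ring
  rw [(hpow q).1]
  obtain ⟨h, hh⟩ := hq.out.odd_of_ne_two hq2
  obtain ⟨r', hr⟩ := exists_add_pow_prime_eq hq.out
    (algebraMap _ (QuadraticAlgebra (AddMonoidAlgebra (ZMod q) (ZMod m)) M 0) α)
    (⟨0, 1⟩ : QuadraticAlgebra (AddMonoidAlgebra (ZMod q) (ZMod m)) M 0)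
  have hZ : Z = algebraMap _ (QuadraticAlgebra (AddMonoidAlgebra (ZMod q) (ZMod m)) M 0) α +
      ⟨0, 1⟩ := by
    ext <;> simp [Z]
  have hzero : ((q : ℕ) : QuadraticAlgebra (AddMonoidAlgebra (ZMod q) (ZMod m)) M 0) = 0 := by
    rw [← map_natCast (algebraMap (ZMod q) (QuadraticAlgebra (AddMonoidAlgebra (ZMod q) (ZMod m)) M 0)),
      ZMod.natCast_self, map_zero]
  rw [hZ, hr, hzero]
  have hω : ∀ k, ((⟨0, 1⟩ : QuadraticAlgebra (AddMonoidAlgebra (ZMod q) (ZMod m)) M 0) ^
      (2 * k + 1)).re = 0 := by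
    intro k
    induction k with
    | zero => simp
    | succ k ih =>
      rw [show 2 * (k + 1) + 1 = (2 * k + 1) + 2 by ring, pow_add, QuadraticAlgebra.re_mul, ih,
        pow_two, QuadraticAlgebra.im_mul (z := (⟨0, 1⟩ : QuadraticAlgebra _ M 0))]
      simp
  have := hω h
  rw [← hh] at this
  rw [zero_mul, zero_mul, zero_mul, add_zero, QuadraticAlgebra.re_add, this, add_zero,
    ← map_pow]
  rfl

theorem Dat.pow_coeff (q : ℕ) [hq : Fact q.Prime] (hq2 : q ≠ 2) (hqm : ¬ q ∣ m)
    (x : 𝒟.alg (ZMod q)) (i : ZMod m) :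
    ((x ^ q : 𝒟.alg (ZMod q)) : MonoidAlgebra (ZMod q) (DihedralGroup m)).coeff (r (q • i)) =
      (x : MonoidAlgebra (ZMod q) (DihedralGroup m)).coeff (r i) := by
  have h := congrArg (fun t : AddMonoidAlgebra (ZMod q) (ZMod m) => t.coeff (q • i))
    (𝒟.cp_pow_prime q hq2 x)
  simp only [coeff_cp] at h
  rw [h, coeff_frobenius,
    show (Finset.univ.filter fun y : ZMod m => q • y = q • i) = {i} from ?_, Finset.sum_singleton,
    coeff_cp]
  ext y
  simp only [Finset.mem_filter, Finset.mem_univ, true_and, Finset.mem_singleton, nsmul_eq_mul]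
  exact (((ZMod.isUnit_iff_coprime q m).mpr (hq.out.coprime_iff_not_dvd.mpr hqm)).mul_right_inj)

theorem prime_class (u : (ZMod m)ˣ) (B : ℕ) :
    ∃ q : ℕ, q.Prime ∧ q ≠ 2 ∧ ¬ q ∣ m ∧ B < q ∧ (q : ZMod m) = u := by
  obtain ⟨q, hq, hqp, hqu⟩ := Nat.forall_exists_prime_gt_and_eq_mod u.isUnit (B + m + 2)
  exact ⟨q, hqp, by omega, fun h => by have := Nat.le_of_dvd (NeZero.pos m) h; omega, by omega, hqu⟩

/-- The image of a stable set under a multiplier. -/
theorem Dat.mulset (hm : 1 < m) {X : Set (DihedralGroup m)} (hX : 𝒟.Stb X) (u : (ZMod m)ˣ) :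
    ∃ Y : Set (DihedralGroup m), 𝒟.Stb Y ∧ (∀ i, r ((u : ZMod m) * i) ∈ Y ↔ r i ∈ X) ∧
      Y.ncard = X.ncard := by
  classical
  obtain ⟨q, hq, hq2, hqm, hqB, hqu⟩ := prime_class u (2 * m)
  haveI := Fact.mk hq
  let f : DihedralGroup m → ZMod q := fun d => if d ∈ X then 1 else 0
  have hf : 𝒟.Inv f := fun a b hab => by simp only [f, hX a b hab]
  let x : 𝒟.alg (ZMod q) := ⟨ofFun f, 𝒟.mk_mem hf⟩
  let g : DihedralGroup m → ZMod q :=
    fun d => ((x ^ q : 𝒟.alg (ZMod q)) : MonoidAlgebra (ZMod q) (DihedralGroup m)).coeff d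
  have hg : 𝒟.Inv g := (x ^ q).2
  have hgr : ∀ i, g (r ((u : ZMod m) * i)) = f (r i) := fun i => by
    rw [← hqu, ← nsmul_eq_mul]
    show ((x ^ q : 𝒟.alg (ZMod q)) : MonoidAlgebra (ZMod q) (DihedralGroup m)).coeff _ = _
    rw [𝒟.pow_coeff q hq2 hqm x i]
    simp [x]
  have h01 : ∀ d, g d = 0 ∨ g d = 1 := by
    intro d
    by_contra hd
    have hrot : ∀ i, g (r i) = 0 ∨ g (r i) = 1 := fun i => by
      rw [show i = (u : ZMod m) * ((↑u⁻¹ : ZMod m) * i) by simp, hgr]
      simp only [f]; split <;> simp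
    obtain ⟨i, hi, -⟩ := 𝒟.meet_r hm (hg.preimage 𝒟 ({0, 1}ᶜ : Set (ZMod q)))
      (x := d) (by simpa using hd) (fun h => hd (by rw [h, one_def]; exact hrot 0))
    exact hi (hrot i)
  refine ⟨g ⁻¹' {1}, hg.preimage 𝒟 {1}, fun i => ?_, ?_⟩
  · rw [Set.mem_preimage, Set.mem_singleton_iff, hgr]
    simp only [f]
    split <;> simp_all
  · have hsum : ∀ (h : DihedralGroup m → ZMod q), (∀ d, h d = 0 ∨ h d = 1) →
        ∑ d, h d = ((h ⁻¹' {1}).ncard : ZMod q) := by
      intro h hh
      rw [Set.ncard_eq_toFinset_card', Finset.sum_congr rfl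
        (g := fun d => if d ∈ h ⁻¹' {1} then (1 : ZMod q) else 0) (fun d _ => by
          rcases hh d with h1 | h1 <;> simp [h1]), Finset.sum_boole]
      congr 2
      ext d; simp
    have h1 : 𝒟.eps (ZMod q) (x ^ q) = 𝒟.eps (ZMod q) x := by rw [map_pow, ZMod.pow_card]
    rw [eps_eq_sum, eps_eq_sum, hsum _ h01,
      hsum _ (fun d => by simp only [x, coeff_mk, f]; split <;> simp)] at h1
    have hX' : ((fun d => (x : MonoidAlgebra (ZMod q) (DihedralGroup m)).coeff d) ⁻¹' {1}) = X := by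
      ext d
      simp only [Set.mem_preimage, Set.mem_singleton_iff, x, coeff_mk, f]
      split <;> simp_all
    rw [hX', ZMod.natCast_eq_natCast_iff] at h1
    have hb : ∀ s : Set (DihedralGroup m), s.ncard < q := fun s => by
      have := Set.ncard_le_ncard (Set.subset_univ s) Set.finite_univ
      rw [Set.ncard_univ, DihedralGroup.nat_card] at this
      omega
    exact h1.eq_of_lt_of_lt (hb _) (hb _)

theorem Dat.RS.add {S : Type} [CommRing S] {x y : 𝒟.alg S} (hx : 𝒟.RS x) (hy : 𝒟.RS y) :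
    𝒟.RS (x + y) := fun u i => by
  have h1 := hx u i
  have h2 := hy u i
  simp only [Subring.coe_add, MonoidAlgebra.coeff_add, Finsupp.add_apply] at h1 h2 ⊢
  rw [h1, h2]

theorem Dat.RS.neg {S : Type} [CommRing S] {x : 𝒟.alg S} (hx : 𝒟.RS x) : 𝒟.RS (-x) :=
  fun u i => by
  have h1 := hx u i
  simp only [Subring.coe_neg, MonoidAlgebra.coeff_neg, Finsupp.neg_apply] at h1 ⊢
  rw [h1]

theorem Dat.RS.red {S S' : Type} [CommRing S] [CommRing S'] (f : S →+* S') {x : 𝒟.alg S}
    (hx : 𝒟.RS x) : 𝒟.RS (𝒟.red f x) := fun u i => by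
  have h1 := hx u i
  simp only at h1
  simp [h1]

theorem Dat.rs_one {S : Type} [CommRing S] : 𝒟.RS (1 : 𝒟.alg S) := fun u i => by
  classical
  simp [MonoidAlgebra.one_def, Finsupp.single_apply, eq_comm (a := (0 : ZMod m))]

theorem Dat.RS.mulInt (hm : 1 < m) {x y : 𝒟.alg ℤ} (hx : 𝒟.RS x) (hy : 𝒟.RS y) :
    𝒟.RS (x * y) := by
  intro u i
  set a := ((x * y : 𝒟.alg ℤ) : MonoidAlgebra ℤ (DihedralGroup m)).coeff (r ((u : ZMod m) * i))
  set b := ((x * y : 𝒟.alg ℤ) : MonoidAlgebra ℤ (DihedralGroup m)).coeff (r i)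
  show a = b
  obtain ⟨q, hq, hq2, hqm, hqB, hqu⟩ := prime_class u (a - b).natAbs
  haveI := Fact.mk hq
  have hfix : ∀ z : 𝒟.alg ℤ, 𝒟.RS z →
      (𝒟.red (Int.castRingHom (ZMod q)) z) ^ q = 𝒟.red (Int.castRingHom (ZMod q)) z := by
    intro z hz
    refine 𝒟.eq_of_cp hm ?_
    ext j
    rw [coeff_cp, coeff_cp]
    have hj : j = q • ((↑u⁻¹ : ZMod m) * j) := by simp [nsmul_eq_mul, hqu]
    conv_lhs => rw [hj]
    rw [𝒟.pow_coeff q hq2 hqm]
    exact hz.red 𝒟 (Int.castRingHom (ZMod q)) u⁻¹ j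
  have h := 𝒟.pow_coeff q hq2 hqm (𝒟.red (Int.castRingHom (ZMod q)) (x * y)) i
  rw [map_mul, mul_pow, hfix x hx, hfix y hy, ← map_mul, 𝒟.coeff_red, 𝒟.coeff_red, nsmul_eq_mul,
    hqu] at h
  have h2 : ((a - b : ℤ) : ZMod q) = 0 := by rw [Int.cast_sub, sub_eq_zero]; exact h
  rw [ZMod.intCast_zmod_eq_zero_iff_dvd] at h2
  have h3 := Int.eq_zero_of_dvd_of_natAbs_lt_natAbs h2 (by simpa using hqB)
  omega

theorem Dat.natCast_zero {S : Type} [CommRing S] (k : ℕ) (h : (k : S) = 0) :
    (k : 𝒟.alg S) = 0 := by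
  refine Subtype.ext (MonoidAlgebra.coeff_injective (Finsupp.ext fun d => ?_))
  rw [show (((k : 𝒟.alg S)) : MonoidAlgebra S (DihedralGroup m)) = (k : MonoidAlgebra S _) from
    map_natCast (𝒟.alg S).subtype k, MonoidAlgebra.coeff_natCast, h]
  simp

/-- integral lift -/
noncomputable def Dat.lift {N : ℕ} [NeZero N] (x : 𝒟.alg (ZMod N)) : 𝒟.alg ℤ :=
  ⟨ofFun fun d => (((x : MonoidAlgebra (ZMod N) (DihedralGroup m)).coeff d).val : ℤ),
    𝒟.mk_mem fun a b hab => by
      have := x.2 a b hab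
      simp only at this ⊢
      rw [this]⟩

theorem Dat.red_lift {N : ℕ} [NeZero N] (x : 𝒟.alg (ZMod N)) :
    𝒟.red (Int.castRingHom (ZMod N)) (𝒟.lift x) = x := by
  refine Subtype.ext (MonoidAlgebra.coeff_injective (Finsupp.ext fun d => ?_))
  simp [Dat.lift]

theorem Dat.RS.mulZMod (hm : 1 < m) {N : ℕ} [NeZero N] {x y : 𝒟.alg (ZMod N)} (hx : 𝒟.RS x)
    (hy : 𝒟.RS y) : 𝒟.RS (x * y) := by
  have key : ∀ z : 𝒟.alg (ZMod N), 𝒟.RS z → 𝒟.RS (𝒟.lift z) := fun z hz u i => by
    have := hz u i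
    simp only at this
    simp [Dat.lift, this]
  rw [← 𝒟.red_lift x, ← 𝒟.red_lift y, ← map_mul]
  exact ((key x hx).mulInt 𝒟 hm (key y hy)).red 𝒟 _

theorem Dat.RS.powZMod (hm : 1 < m) {N : ℕ} [NeZero N] {x : 𝒟.alg (ZMod N)} (hx : 𝒟.RS x)
    (k : ℕ) : 𝒟.RS (x ^ k) := by
  induction k with
  | zero => simpa using 𝒟.rs_one
  | succ k ih => rw [pow_succ]; exact ih.mulZMod 𝒟 hm hx

theorem rat_mul {S : Type} [CommRing S] {a b : AddMonoidAlgebra S (ZMod m)}
    (ha : Rat' (fun i => a.coeff i)) (hb : Rat' (fun i => b.coeff i)) :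
    Rat' (fun i => (a * b).coeff i) := by
  intro u i
  simp only [coeff_mul_add]
  refine (Fintype.sum_equiv (Units.mulLeft u) _ _ fun h => ?_).symm
  show a.coeff h * b.coeff (-h + i) =
    a.coeff ((u : ZMod m) * h) * b.coeff (-((u : ZMod m) * h) + (u : ZMod m) * i)
  rw [← mul_neg, ← mul_add, show a.coeff _ = a.coeff h from ha u h,
    show b.coeff ((u : ZMod m) * (-h + i)) = b.coeff (-h + i) from hb u _]

section exclusion

variable (hm : 1 < m) (p : ℕ) [hp : Fact p.Prime] (hp2 : p ≠ 2) (hpm : p ∣ m)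

/-- rational, with rotation part supported on elements of order prime to `p` -/
def Dat.SC (p : ℕ) {S : Type} [CommRing S] (x : 𝒟.alg S) : Prop :=
  𝒟.RS x ∧ Supp p (cp (x : MonoidAlgebra S (DihedralGroup m)))

theorem exists_pmul_root {k : ZMod m} (hk : ¬ p ∣ addOrderOf k) :
    ∃ l, p • l = k ∧ ¬ p ∣ addOrderOf l := by
  have hc : Nat.gcd p (addOrderOf k) = 1 := hp.out.coprime_iff_not_dvd.mpr hk
  have hb := Nat.gcd_eq_gcd_ab p (addOrderOf k)
  rw [hc] at hb
  refine ⟨(Nat.gcdA p (addOrderOf k)) • k, ?_, fun hd => hk ?_⟩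
  · have h1 := congrArg (fun t : ℤ => t • k) hb
    simp only [Nat.cast_one, one_smul, add_smul] at h1
    rw [mul_comm ((addOrderOf k : ℕ) : ℤ), mul_smul, mul_smul, natCast_zsmul, natCast_zsmul,
      addOrderOf_nsmul_eq_zero, smul_zero, add_zero] at h1
    exact h1.symm
  · refine hd.trans (addOrderOf_dvd_of_nsmul_eq_zero ?_)
    rw [smul_comm, addOrderOf_nsmul_eq_zero, smul_zero]

include hm hp2 hpm

theorem Dat.sc_iff_fixed {x : 𝒟.alg (ZMod p)} (hx : 𝒟.RS x) :
    x ^ p = x ↔ Supp p (cp (x : MonoidAlgebra (ZMod p) (DihedralGroup m))) := by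
  set α := cp (x : MonoidAlgebra (ZMod p) (DihedralGroup m)) with hα
  have hαr : Rat' (fun i => α.coeff i) := fun u i => by simpa [hα] using hx u i
  constructor
  · intro h y hy
    have h1 := 𝒟.cp_pow_prime p hp2 x
    rw [h, ← hα] at h1
    rw [h1]
    exact frob_dvd p hpm α hαr hy
  · intro hs
    refine 𝒟.eq_of_cp hm ?_
    rw [𝒟.cp_pow_prime p hp2 x, ← hα]
    ext y
    by_cases hy : p ∣ addOrderOf y
    · rw [frob_dvd p hpm α hαr hy, hs y hy]
    · obtain ⟨k, rfl, hk⟩ := exists_pmul_root p hy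
      rw [frob_coprime p hpm α hαr hk,
        hs (k + zel p m) (by
          have h1 := order_add_smul p hpm hk (j := 1) (by simpa using hp.out.ne_one)
          rw [one_nsmul] at h1
          rw [h1]; exact dvd_mul_right p _), sub_zero]
      exact hαr.eq_of_order (order_of_not_dvd_image p hk).symm

theorem idem_supp {N : ℕ} (hN : 0 < N) {v : AddMonoidAlgebra (ZMod (p ^ N)) (ZMod m)}
    (hv : v * v = v) (hvr : Rat' (fun i => v.coeff i)) : Supp p v := by
  haveI : NeZero (p ^ N) := ⟨pow_ne_zero _ hp.out.ne_zero⟩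
  let π := ZMod.castHom (dvd_pow_self p hN.ne') (ZMod p)
  let v0 := AddMonoidAlgebra.mapRingHom (ZMod m) π v
  have hv0 : ∀ i, v0.coeff i = π (v.coeff i) := fun i => by simp [v0]
  have hs0 : Supp p v0 := by
    intro y hy
    have h1 : v0 ^ p = v0 := by
      have hi : IsIdempotentElem v0 := by
        show v0 * v0 = v0
        rw [← map_mul, hv]
      exact hi.pow_eq (NeZero.ne p)
    rw [← h1]
    exact frob_dvd p hpm v0 (fun u i => by simp only [hv0]; rw [show v.coeff _ = v.coeff i from hvr u i]) hy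
  let w : AddMonoidAlgebra (ZMod (p ^ N)) (ZMod m) :=
    ofFunA fun i => if p ∣ addOrderOf i then 0 else v.coeff i
  have hw : Supp p w := fun i hi => by simp [w, hi]
  have hdvd : (p : AddMonoidAlgebra (ZMod (p ^ N)) (ZMod m)) ∣ v - w := by
    refine ⟨ofFunA fun i => (((v.coeff i - w.coeff i).val / p : ℕ) : ZMod (p ^ N)), ?_⟩
    ext i
    rw [← nsmul_eq_mul]
    simp only [AddMonoidAlgebra.coeff_sub, Finsupp.sub_apply, AddMonoidAlgebra.coeff_smul_apply,
      coeff_mkA]
    rw [nsmul_eq_mul, ← Nat.cast_mul, Nat.mul_div_cancel', ZMod.natCast_zmod_val]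
    have h0 : π (v.coeff i - w.coeff i) = 0 := by
      rw [map_sub]
      by_cases hi : p ∣ addOrderOf i
      · have := hs0 i hi
        rw [hv0] at this
        simp [w, hi, this]
      · simp [w, hi]
    rw [← ZMod.natCast_zmod_val (v.coeff i - w.coeff i), map_natCast,
      ZMod.natCast_eq_zero_iff] at h0
    exact h0
  have h2 := dvd_sub_pow_of_dvd_sub hdvd N
  have hz : ((p : AddMonoidAlgebra (ZMod (p ^ N)) (ZMod m)) ^ (N + 1)) = 0 := by
    rw [← map_natCast (AddMonoidAlgebra.singleZeroRingHom (R := ZMod (p ^ N)) (M := ZMod m)),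
      ← map_pow]
    rw [show ((p : ZMod (p ^ N)) ^ (N + 1)) = 0 by
      rw [← Nat.cast_pow, ZMod.natCast_eq_zero_iff]; exact pow_dvd_pow p (Nat.le_succ N), map_zero]
  rw [hz, zero_dvd_iff, sub_eq_zero] at h2
  have hvpow : v ^ (p ^ N) = v :=
    (show IsIdempotentElem v from hv).pow_eq (pow_ne_zero _ hp.out.ne_zero)
  rw [← hvpow, h2]
  have key : ∀ k, Supp p (w ^ (k + 1)) := by
    intro k
    induction k with
    | zero => simpa using hw
    | succ k ih => rw [pow_succ]; exact ih.mul hp.out hw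
  rw [show w ^ (p ^ N) = w ^ ((p ^ N - 1) + 1) from congrArg (w ^ ·)
    (Nat.succ_pred_eq_of_pos (pow_pos hp.out.pos N)).symm]
  exact key _

theorem Dat.idem_sc {N : ℕ} (hN : 0 < N) {e : 𝒟.alg (ZMod (p ^ N))} (he : e * e = e)
    (her : 𝒟.RS e) : 𝒟.SC p e := by
  refine ⟨her, ?_⟩
  set α := cp (e : MonoidAlgebra (ZMod (p ^ N)) (DihedralGroup m)) with hα
  set β := bp (e : MonoidAlgebra (ZMod (p ^ N)) (DihedralGroup m)) with hβ
  have hαr : Rat' (fun i => α.coeff i) := fun u i => by simpa [hα] using her u i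
  have he' := congrArg (fun t : 𝒟.alg (ZMod (p ^ N)) =>
    (t : MonoidAlgebra (ZMod (p ^ N)) (DihedralGroup m))) he
  simp only [Subring.coe_mul] at he'
  have h1 := congrArg cp he'
  have h2 := congrArg bp he'
  rw [cp_mul, ← hα, ← hβ] at h1
  rw [bp_mul, 𝒟.st_cp, ← hα, ← hβ] at h2
  -- the rotation part is a root of `X (1 - X) (1 - 2 X)`
  have hroot : (α - α * α) * (1 - 2 * α) = 0 := by
    linear_combination (-(1 - 2 * α)) * h1 + (-(st β)) * h2
  set e1 := 2 * α * α - α with he1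
  set u := 4 * (α * (1 - α)) with hu
  have he1i : e1 * e1 = e1 := by
    rw [he1]; linear_combination (2 * α + 1) * hroot
  have hui : u * u = u := by
    rw [hu]; linear_combination (-4 * (1 - 2 * α)) * hroot
  have hone : Rat' (fun i => (1 : AddMonoidAlgebra (ZMod (p ^ N)) (ZMod m)).coeff i) := fun v i => by
    classical
    simp [AddMonoidAlgebra.one_def, Finsupp.single_apply, eq_comm (a := (0 : ZMod m))]
  have hsub : ∀ {a b : AddMonoidAlgebra (ZMod (p ^ N)) (ZMod m)}, Rat' (fun i => a.coeff i) →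
      Rat' (fun i => b.coeff i) → Rat' (fun i => (a - b).coeff i) := fun ha hb v i => by
    have h1 := ha v i
    have h2 := hb v i
    simp only at h1 h2
    simp [h1, h2]
  have hadd : ∀ {a b : AddMonoidAlgebra (ZMod (p ^ N)) (ZMod m)}, Rat' (fun i => a.coeff i) →
      Rat' (fun i => b.coeff i) → Rat' (fun i => (a + b).coeff i) := fun ha hb v i => by
    have h1 := ha v i
    have h2 := hb v i
    simp only at h1 h2
    simp [h1, h2]
  have he1r : Rat' (fun i => e1.coeff i) := by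
    rw [show e1 = (α + α) * α - α by rw [he1]; ring]
    exact hsub (rat_mul (hadd hαr hαr) hαr) hαr
  have hur : Rat' (fun i => u.coeff i) := by
    rw [show u = ((α + α) + (α + α)) * (1 - α) by rw [hu]; ring]
    exact rat_mul (hadd (hadd hαr hαr) (hadd hαr hαr)) (hsub hone hαr)
  have hs : Supp p (u + (e1 + e1)) :=
    (idem_supp hm p hp2 hpm hN hui hur).add
      ((idem_supp hm p hp2 hpm hN he1i he1r).add (idem_supp hm p hp2 hpm hN he1i he1r))
  rw [show u + (e1 + e1) = α + α by rw [he1, hu]; ring] at hs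
  intro y hy
  have h3 := hs y hy
  simp only [AddMonoidAlgebra.coeff_add, Finsupp.add_apply] at h3
  rw [← two_mul] at h3
  have h4 : IsUnit ((2 : ℕ) : ZMod (p ^ N)) :=
    (ZMod.isUnit_iff_coprime 2 (p ^ N)).mpr
      (((Nat.coprime_primes Nat.prime_two hp.out).mpr (Ne.symm hp2)).pow_right N)
  exact (h4.mul_right_eq_zero).mp (by exact_mod_cast h3)

theorem interpolation {A : Type} [CommRing A] [Algebra (ZMod p) A] (x : A) :
    ∑ c : ZMod p, algebraMap _ A c * (1 - (x - algebraMap _ A c) ^ (p - 1)) = x := by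
  classical
  let P : Polynomial (ZMod p) :=
    ∑ c : ZMod p, Polynomial.C c * (1 - (Polynomial.X - Polynomial.C c) ^ (p - 1)) - Polynomial.X
  suffices hP : P = 0 by
    have := congrArg (Polynomial.aeval x) hP
    simp only [P, map_sub, map_sum, map_mul, map_one, map_pow, Polynomial.aeval_C,
      Polynomial.aeval_X, map_zero] at this
    exact sub_eq_zero.mp this
  refine Polynomial.eq_zero_of_natDegree_lt_card_of_eval_eq_zero P (Function.injective_id)
    (fun y => ?_) ?_
  · simp only [P, id, Polynomial.eval_sub, Polynomial.eval_finsetSum, Polynomial.eval_mul,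
      Polynomial.eval_C, Polynomial.eval_one, Polynomial.eval_pow, Polynomial.eval_X]
    rw [Finset.sum_eq_single y]
    · rw [sub_self, zero_pow (by have := hp.out.two_le; omega), sub_zero, mul_one, sub_self]
    · intro c _ hc
      rw [ZMod.pow_card_sub_one_eq_one (sub_ne_zero.mpr (Ne.symm hc)), sub_self, mul_zero]
    · simp
  · rw [ZMod.card]
    refine lt_of_le_of_lt (Polynomial.natDegree_sub_le _ _) (max_lt ?_ ?_)
    · refine lt_of_le_of_lt (Polynomial.natDegree_sum_le_of_forall_le _ _ (n := p - 1)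
        fun c _ => ?_) (by have := hp.out.pos; omega)
      refine (Polynomial.natDegree_C_mul_le _ _).trans ((Polynomial.natDegree_sub_le _ _).trans ?_)
      simp
    · rw [Polynomial.natDegree_X]; exact hp.out.one_lt

theorem Dat.span_idem {N : ℕ} (hN : 0 < N) {x : 𝒟.alg (ZMod (p ^ N))} (hx : 𝒟.SC p x) :
    x ∈ AddSubgroup.closure {e : 𝒟.alg (ZMod (p ^ N)) | e * e = e ∧ 𝒟.RS e} := by
  haveI : NeZero (p ^ N) := ⟨pow_ne_zero _ hp.out.ne_zero⟩
  set E := AddSubgroup.closure {e : 𝒟.alg (ZMod (p ^ N)) | e * e = e ∧ 𝒟.RS e} with hE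
  let π := ZMod.castHom (dvd_pow_self p hN.ne') (ZMod p)
  have hπval : ∀ t : ZMod (p ^ N), π t = 0 → p ∣ t.val := fun t ht => by
    rw [← ZMod.natCast_zmod_val t, map_natCast, ZMod.natCast_eq_zero_iff] at ht
    exact ht
  -- halving by `p`
  have hdiv : ∀ z : 𝒟.alg (ZMod (p ^ N)), 𝒟.red π z = 0 → ∃ w : 𝒟.alg (ZMod (p ^ N)),
      z = (p : 𝒟.alg (ZMod (p ^ N))) * w ∧ (𝒟.RS z → 𝒟.RS w) ∧
        (Supp p (cp (z : MonoidAlgebra (ZMod (p ^ N)) (DihedralGroup m))) →
          Supp p (cp (w : MonoidAlgebra (ZMod (p ^ N)) (DihedralGroup m)))) := by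
    intro z hz
    refine ⟨⟨ofFun fun d =>
      ((((z : MonoidAlgebra (ZMod (p ^ N)) (DihedralGroup m)).coeff d).val / p : ℕ) : ZMod (p ^ N)),
      𝒟.mk_mem fun a b hab => by
        have := z.2 a b hab
        simp only at this ⊢
        rw [this]⟩, ?_, ?_, ?_⟩
    · refine Subtype.ext (MonoidAlgebra.coeff_injective (Finsupp.ext fun d => ?_))
      rw [← nsmul_eq_mul]
      simp only [AddSubmonoidClass.coe_nsmul,
        MonoidAlgebra.coeff_smul_apply, coeff_mk]
      rw [nsmul_eq_mul, ← Nat.cast_mul, Nat.mul_div_cancel', ZMod.natCast_zmod_val]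
      refine hπval _ ?_
      have h0 := congrArg (fun t : 𝒟.alg (ZMod p) =>
        (t : MonoidAlgebra (ZMod p) (DihedralGroup m)).coeff d) hz
      simpa using h0
    · intro hr u i
      have := hr u i
      simp only at this
      simp [this]
    · intro hs i hi
      have := hs i hi
      simp only [coeff_cp] at this
      simp [this]
  have step : ∀ j, ∃ (e w : 𝒟.alg (ZMod (p ^ N))), e ∈ E ∧ 𝒟.SC p w ∧
      x = e + (p : 𝒟.alg (ZMod (p ^ N))) ^ j * w := by
    intro j
    induction j with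
    | zero => exact ⟨0, x, E.zero_mem, hx, by simp⟩
    | succ j ih =>
      obtain ⟨e, w, he, hw, hxe⟩ := ih
      let t : ZMod p → 𝒟.alg (ZMod (p ^ N)) := fun c =>
        (1 - (w - ((c.val : ℕ) : 𝒟.alg (ZMod (p ^ N)))) ^ (p - 1)) ^ (p ^ N)
      have hnat : ∀ k : ℕ, 𝒟.RS ((k : ℕ) : 𝒟.alg (ZMod (p ^ N))) := by
        intro k
        induction k with
        | zero => intro u i; simp
        | succ k ihk => rw [Nat.cast_succ]; exact ihk.add 𝒟 𝒟.rs_one
      have hbase : ∀ c : ZMod p,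
          𝒟.RS (1 - (w - ((c.val : ℕ) : 𝒟.alg (ZMod (p ^ N)))) ^ (p - 1)) := fun c => by
        rw [sub_eq_add_neg (1 : 𝒟.alg (ZMod (p ^ N))), sub_eq_add_neg w]
        exact 𝒟.rs_one.add 𝒟 (((hw.1.add 𝒟 ((hnat _).neg 𝒟)).powZMod 𝒟 hm _).neg 𝒟)
      have hwfix : (𝒟.red π w) ^ p = 𝒟.red π w := by
        refine (𝒟.sc_iff_fixed hm p hp2 hpm (hw.1.red 𝒟 π)).mpr fun i hi => ?_
        have := hw.2 i hi
        simp only [coeff_cp] at this
        simp [this]
      haveI hchar : CharP (𝒟.alg (ZMod p)) p := by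
        haveI : Nontrivial (𝒟.alg (ZMod p)) := (𝒟.eps (ZMod p)).domain_nontrivial
        exact (CharP.charP_iff_prime_eq_zero hp.out).mpr (𝒟.natCast_zero p (ZMod.natCast_self p))
      letI : Algebra (ZMod p) (𝒟.alg (ZMod p)) := ZMod.algebra _ p
      have hcast : ∀ c : ZMod p, ((c.val : ℕ) : 𝒟.alg (ZMod p)) = algebraMap _ _ c := fun c => by
        rw [← map_natCast (algebraMap (ZMod p) (𝒟.alg (ZMod p))), ZMod.natCast_zmod_val]
      have htid : ∀ c, t c * t c = t c := by
        intro c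
        set s : 𝒟.alg (ZMod (p ^ N)) :=
          1 - (w - ((c.val : ℕ) : 𝒟.alg (ZMod (p ^ N)))) ^ (p - 1) with hs
        have hred : 𝒟.red π (s * s - s) = 0 := by
          simp only [hs, map_sub, map_mul, map_one, map_pow, map_natCast]
          set y := 𝒟.red π w - ((c.val : ℕ) : 𝒟.alg (ZMod p)) with hy
          have hyp : y ^ p = y := by
            rw [hy, sub_pow_char, hwfix, hcast, ← map_pow, ZMod.pow_card]
          have hyy : y ^ (p - 1) * y ^ (p - 1) = y ^ (p - 1) := by
            obtain ⟨k, hk⟩ : ∃ k, p = k + 2 := ⟨p - 2, by have := hp.out.two_le; omega⟩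
            subst hk
            calc y ^ (k + 2 - 1) * y ^ (k + 2 - 1) = y ^ (k + 2) * y ^ k := by
                  rw [← pow_add, ← pow_add]; congr 1; omega
              _ = y * y ^ k := by rw [hyp]
              _ = y ^ (k + 2 - 1) := by rw [← pow_succ']; congr 1
          linear_combination hyy
        obtain ⟨w', hw', -, -⟩ := hdiv _ hred
        have h2 := dvd_sub_pow_of_dvd_sub (⟨w', hw'⟩ : (p : 𝒟.alg (ZMod (p ^ N))) ∣ s * s - s) N
        have hz : ((p : 𝒟.alg (ZMod (p ^ N))) ^ (N + 1)) = 0 := by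
          rw [← Nat.cast_pow]
          exact 𝒟.natCast_zero _
            ((ZMod.natCast_eq_zero_iff (p ^ (N + 1)) (p ^ N)).mpr (pow_dvd_pow p (Nat.le_add_right N 1)))
        rw [hz, zero_dvd_iff, sub_eq_zero, mul_pow] at h2
        exact h2
      have htr : ∀ c, 𝒟.RS (t c) := fun c => (hbase c).powZMod 𝒟 hm _
      have htE : ∀ c, t c ∈ E := fun c => AddSubgroup.subset_closure ⟨htid c, htr c⟩
      set e' := ∑ c : ZMod p, c.val • t c with he'
      have he'E : e' ∈ E := sum_mem fun c _ => E.nsmul_mem (htE c) _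
      have hred : 𝒟.red π (w - e') = 0 := by
        rw [map_sub, sub_eq_zero, he', map_sum]
        conv_lhs => rw [← interpolation hm p hp2 hpm (A := 𝒟.alg (ZMod p)) (𝒟.red π w)]
        refine Finset.sum_congr rfl fun c _ => ?_
        rw [map_nsmul, nsmul_eq_mul]
        simp only [t, map_pow, map_sub, map_one, map_natCast, ← hcast]
        set y := 𝒟.red π w - ((c.val : ℕ) : 𝒟.alg (ZMod p))
        have hyp : y ^ p = y := by
          show (𝒟.red π w - _) ^ p = _
          rw [sub_pow_char, hwfix, hcast, ← map_pow, ZMod.pow_card]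
          exact (congrArg (𝒟.red π w - ·) (hcast c)).symm
        have hs : ∀ k, (1 - y ^ (p - 1)) ^ (p ^ k) = 1 - y ^ (p - 1) := by
          intro k
          induction k with
          | zero => simp
          | succ k ihk =>
            rw [pow_succ p k, pow_mul, ihk, sub_pow_char, one_pow, ← pow_mul, mul_comm, pow_mul,
              hyp]
        rw [hs N]
      have he'SC : 𝒟.RS (w - e') ∧
          Supp p (cp ((w - e' : 𝒟.alg (ZMod (p ^ N))) :
            MonoidAlgebra (ZMod (p ^ N)) (DihedralGroup m))) := by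
        have hSCsum : 𝒟.SC p e' := by
          refine AddSubgroup.closure_induction (p := fun z _ => 𝒟.SC p z) ?_ ?_ ?_ ?_ he'E
          · exact fun z hz => 𝒟.idem_sc hm p hp2 hpm hN hz.1 hz.2
          · exact ⟨fun u i => by simp, fun i _ => by simp⟩
          · exact fun a b _ _ ha hb => ⟨ha.1.add 𝒟 hb.1, by
              rw [Subring.coe_add, cp_add]; exact ha.2.add hb.2⟩
          · exact fun a _ ha => ⟨ha.1.neg 𝒟, fun i hi => by
              have := ha.2 i hi
              simp only [coeff_cp] at this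
              simp [this]⟩
        refine ⟨?_, fun i hi => ?_⟩
        · rw [sub_eq_add_neg]; exact hw.1.add 𝒟 (hSCsum.1.neg 𝒟)
        · have h1 := hw.2 i hi
          have h2 := hSCsum.2 i hi
          simp only [coeff_cp] at h1 h2
          simp [h1, h2]
      obtain ⟨w', hw', hwr, hws⟩ := hdiv _ hred
      refine ⟨e + (p : 𝒟.alg (ZMod (p ^ N))) ^ j * e', w', E.add_mem he ?_,
        ⟨hwr he'SC.1, hws he'SC.2⟩, ?_⟩
      · rw [← Nat.cast_pow, ← nsmul_eq_mul]
        exact E.nsmul_mem he'E _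
      · rw [hxe, pow_succ]
        linear_combination ((p : 𝒟.alg (ZMod (p ^ N))) ^ j) * hw'
  obtain ⟨e, w, he, -, hxe⟩ := step N
  have hz : ((p : 𝒟.alg (ZMod (p ^ N))) ^ N) = 0 := by
    rw [← Nat.cast_pow]
    exact 𝒟.natCast_zero _ (ZMod.natCast_self _)
  rw [hxe, hz, zero_mul, add_zero]
  exact he

theorem Dat.SC.mul {N : ℕ} (hN : 0 < N) {x y : 𝒟.alg (ZMod (p ^ N))} (hx : 𝒟.SC p x)
    (hy : 𝒟.SC p y) : 𝒟.SC p (x * y) := by
  haveI : NeZero (p ^ N) := ⟨pow_ne_zero _ hp.out.ne_zero⟩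
  have hsup : Supp p (cp ((x * y : 𝒟.alg (ZMod (p ^ N))) :
      MonoidAlgebra (ZMod (p ^ N)) (DihedralGroup m))) := by
    refine AddSubgroup.closure_induction₂
      (p := fun (a b : 𝒟.alg (ZMod (p ^ N))) _ _ => Supp p (cp ((a * b : 𝒟.alg (ZMod (p ^ N))) :
        MonoidAlgebra (ZMod (p ^ N)) (DihedralGroup m))))
      ?_ ?_ ?_ ?_ ?_ ?_ ?_ (𝒟.span_idem hm p hp2 hpm hN hx) (𝒟.span_idem hm p hp2 hpm hN hy)
    · intro a b ha hb
      refine (𝒟.idem_sc hm p hp2 hpm hN ?_ (ha.2.mulZMod 𝒟 hm hb.2)).2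
      linear_combination (b * b) * ha.1 + a * hb.1
    · intro b hb i hi; simp
    · intro a ha i hi; simp
    · intro a b c _ _ _ h1 h2 i hi
      have e1 := h1 i hi; have e2 := h2 i hi
      simp only [coeff_cp] at e1 e2
      rw [add_mul]; simp only [coeff_cp, Subring.coe_add, MonoidAlgebra.coeff_add, Finsupp.add_apply, e1, e2, add_zero]
    · intro a b c _ _ _ h1 h2 i hi
      have e1 := h1 i hi; have e2 := h2 i hi
      simp only [coeff_cp] at e1 e2
      rw [mul_add]; simp only [coeff_cp, Subring.coe_add, MonoidAlgebra.coeff_add, Finsupp.add_apply, e1, e2, add_zero]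
    · intro a b _ _ h1 i hi
      have e1 := h1 i hi
      simp only [coeff_cp] at e1
      rw [neg_mul]; simp only [coeff_cp, Subring.coe_neg, MonoidAlgebra.coeff_neg, Finsupp.neg_apply, e1, neg_zero]
    · intro a b _ _ h1 i hi
      have e1 := h1 i hi
      simp only [coeff_cp] at e1
      rw [mul_neg]; simp only [coeff_cp, Subring.coe_neg, MonoidAlgebra.coeff_neg, Finsupp.neg_apply, e1, neg_zero]
  exact ⟨hx.1.mulZMod 𝒟 hm hy.1, hsup⟩

/-- No rational stable set has its rotation part among the non-identity elements of order prime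
to `p`. -/
theorem Dat.exclusion {Y : Set (DihedralGroup m)} (hY : 𝒟.Stb Y)
    (hYr : Rat' (fun i => r i ∈ Y)) (hY1 : (1 : DihedralGroup m) ∉ Y)
    (hYK : ∀ i, r i ∈ Y → ¬ p ∣ addOrderOf i) : Y = ∅ := by
  classical
  by_contra hne
  obtain ⟨x₀, hx₀⟩ := Set.nonempty_iff_ne_empty.mpr hne
  have hN : 0 < 2 * m := by omega
  set N := 2 * m with hNdef
  haveI : NeZero (p ^ N) := ⟨pow_ne_zero _ hp.out.ne_zero⟩
  let f : DihedralGroup m → ZMod (p ^ N) := fun d => if d ∈ Y then 1 else 0
  have hf : 𝒟.Inv f := fun a b hab => by simp only [f, hY a b hab]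
  let y : 𝒟.alg (ZMod (p ^ N)) := ⟨ofFun f, 𝒟.mk_mem hf⟩
  have hy : 𝒟.SC p y := by
    refine ⟨fun u i => ?_, fun i hi => ?_⟩
    · have := hYr u i
      simp only at this
      simp only [y, coeff_mk, f, this]
    · simp only [coeff_cp, y, coeff_mk, f]
      rw [if_neg fun h => hYK i h hi]
  have hyy := (hy.mul 𝒟 hm p hp2 hpm hN hy).2
  let K : AddSubgroup (ZMod m) :=
    { carrier := {i | ¬ p ∣ addOrderOf i}
      zero_mem' := by simp [hp.out.ne_one]
      add_mem' := fun {a b} ha hb h => by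
        have h3 := (AddCommute.all a b).addOrderOf_add_dvd_lcm
        exact (hp.out.dvd_mul.mp ((h.trans h3).trans (Nat.lcm_dvd_mul _ _))).elim ha hb
      neg_mem' := fun {a} ha => by simpa using ha }
  have hdiff : ∀ a b, sr a ∈ Y → sr b ∈ Y → b - a ∈ K := by
    intro a b ha hb hd
    have h1 := hyy (b - a) hd
    simp only [coeff_cp, Subring.coe_mul, coeff_mul_grp] at h1
    have hcast : (∑ h, f h * f (h⁻¹ * r (b - a))) =
        ((Finset.univ.filter fun h => h ∈ Y ∧ h⁻¹ * r (b - a) ∈ Y).card : ZMod (p ^ N)) := by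
      rw [← Finset.sum_boole]
      refine Finset.sum_congr rfl fun h _ => ?_
      by_cases h1 : h ∈ Y <;> by_cases h2 : h⁻¹ * r (b - a) ∈ Y <;> simp [f, h1, h2]
    simp only [y, coeff_mk] at h1
    rw [hcast, ZMod.natCast_eq_zero_iff] at h1
    have hpos : 0 < (Finset.univ.filter fun h => h ∈ Y ∧ h⁻¹ * r (b - a) ∈ Y).card :=
      Finset.card_pos.mpr ⟨sr a, Finset.mem_filter.mpr ⟨Finset.mem_univ _, ha, by simpa using hb⟩⟩
    have hle : (Finset.univ.filter fun h => h ∈ Y ∧ h⁻¹ * r (b - a) ∈ Y).card ≤ 2 * m := by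
      refine (Finset.card_le_univ _).trans ?_
      rw [DihedralGroup.card]
    have h2 := Nat.le_of_dvd hpos h1
    have h3 := Nat.lt_pow_self (n := N) hp.out.one_lt
    omega
  obtain ⟨a, ha⟩ := 𝒟.meet_sr hY hx₀ (fun h => hY1 (h ▸ hx₀))
  let H : Subgroup (DihedralGroup m) :=
    { carrier := {d | match d with
        | r i => i ∈ K
        | sr i => i - a ∈ K}
      one_mem' := by rw [one_def]; exact K.zero_mem
      mul_mem' := by
        rintro (i | i) (j | j) hi hj
        · simpa using K.add_mem hi hj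
        · show j - i - a ∈ K
          have := K.sub_mem hj hi
          rwa [show j - a - i = j - i - a by ring] at this
        · show i + j - a ∈ K
          have := K.add_mem hi hj
          rwa [show i - a + j = i + j - a by ring] at this
        · show j - i ∈ K
          have := K.sub_mem hj hi
          rwa [show j - a - (i - a) = j - i by ring] at this
      inv_mem' := by
        rintro (i | i) hi
        · simpa using K.neg_mem hi
        · simpa using hi }
  refine hY1 (𝒟.gen' hY H (fun d hd => ?_) (fun htop => ?_) hx₀ ▸ hx₀)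
  · cases d with
    | r i => exact hYK i hd
    | sr i => exact hdiff a i ha hd
  · have h1 : r (zel p m) ∈ H := htop ▸ Subgroup.mem_top _
    exact h1 (by rw [addOrderOf_zel p hpm])

end exclusion

end Cfsg.Agent.Dih3572
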